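import Groth.Prelude.Def_AlgSpOX3
import Groth.Prelude.Def_AlgSpDec
import Mathlib.AlgebraicGeometry.Sites.EtalePoint
import Mathlib.FieldTheory.IsAlgClosed.AlgebraicClosure

/-!
# Lifts of geometric points to etale charts of an algebraic space
-/

universe u

set_option backward.isDefEq.respectTransparency false

open CategoryTheory CategoryTheory.Limits AlgebraicGeometry Opposite AlgSp

namespace Groth.Agent.Lib.AlgSpStalk.Lifts

variable {S : Scheme.{u}} {X : Sp S}

/-- The unique point of the source of a field-valued point. -/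
noncomputable abbrev pt₀ (p : FieldPt X) : ↥p.pt.left := IsLocalRing.closedPoint p.K

theorem yon_map_val_eq {F : Sp S} {T T' : Over S} (g : T' ⟶ T) (a : (yon S).obj T ⟶ F) :
    (J S).uliftYonedaEquiv ((yon S).map g ≫ a) = F.obj.map g.op ((J S).uliftYonedaEquiv a) :=
  ((J S).uliftYonedaEquiv_naturality a g).symm

/-- Two field-valued points give the same point iff they agree over a common field. -/
theorem mk_eq_mk_iff_exists {p q : FieldPt X} :
    Points.mk p = Points.mk q ↔
      ∃ (Ω : Type u) (_ : Field Ω) (w : Spec (CommRingCat.of Ω) ⟶ S) (a : Over.mk w ⟶ p.pt)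
        (b : Over.mk w ⟶ q.pt), (yon S).map a ≫ p.toHom = (yon S).map b ≫ q.toHom := by
  rw [Points.mk_eq_mk_iff]
  refine exists_congr fun Ω => exists_congr fun _ => exists_congr fun w => exists_congr fun a =>
    exists_congr fun b => ?_
  rw [← ((J S).uliftYonedaEquiv (F := X)).injective.eq_iff, yon_map_val_eq, yon_map_val_eq,
    FieldPt.uliftYonedaEquiv_toHom, FieldPt.uliftYonedaEquiv_toHom]

/-- The field-valued point of `X` given by a field-valued point of a chart. -/
noncomputable def ofHom {K : Type u} [Field K] (str : Spec (CommRingCat.of K) ⟶ S)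
    (h : (yon S).obj (Over.mk str) ⟶ X) : FieldPt X :=
  ⟨K, str, (J S).uliftYonedaEquiv h⟩

theorem toHom_ofHom {K : Type u} [Field K] (str : Spec (CommRingCat.of K) ⟶ S)
    (h : (yon S).obj (Over.mk str) ⟶ X) : (ofHom str h).toHom = h :=
  (J S).uliftYonedaEquiv.symm_apply_apply h

/-- The point defined by a morphism from the spectrum of a field through a chart. -/
theorem mk_eq_ofPt (p : FieldPt X) {T : Over S} (g : (yon S).obj T ⟶ X) (l : p.pt ⟶ T)
    (hl : (yon S).map l ≫ g = p.toHom) :
    Points.mk p = Points.ofPt g (l.left (pt₀ p)) := by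
  have h1 : (FieldPt.map g ⟨p.K, p.str, ⟨l⟩⟩ : FieldPt X) = ⟨p.K, p.str, p.val⟩ := by
    have h2 : g.hom.app (op p.pt) ⟨l⟩ = p.val := by
      have h3 := congrArg ((J S).uliftYonedaEquiv) hl
      rw [FieldPt.uliftYonedaEquiv_toHom] at h3
      exact h3
    exact congrArg (fun v => (⟨p.K, p.str, v⟩ : FieldPt X)) h2
  rw [Points.ofPt_eq_map_ofScheme]
  have h4 := Points.ofScheme_apply_eq_mk T l.left (Over.w l)
  exact (congrArg Points.mk h1).symm.trans (congrArg (Points.map g) h4).symm

/-- A lift of a point `p` to `E` lies over the class of `p`. -/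
theorem ofPt_lift (p : FieldPt X) {E : EtOver X} (l : (FieldPt.liftsTo p).obj E) :
    Points.ofPt E.obj.hom (l.1.left (pt₀ p)) = Points.mk p :=
  (mk_eq_ofPt p E.obj.hom l.1 l.2).symm

/-- Geometric points lift to every point of an etale chart lying over them. -/
theorem exists_lift (p : FieldPt X) (hp : p.IsGeometric) (E : EtOver X) (u : ↥E.obj.left.left)
    (hu : Points.ofPt E.obj.hom u = Points.mk p) :
    ∃ l : (FieldPt.liftsTo p).obj E, l.1.left (pt₀ p) = u := by
  obtain ⟨Ω, _, w, a, b, hab⟩ := mk_eq_mk_iff_exists.1 hu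
  have hab' : (yon S).map (a ≫ (Over.homMk (E.obj.left.left.fromSpecResidueField u) rfl :
      (FieldPt.ofPt E.obj.hom u).pt ⟶ E.obj.left)) ≫ E.obj.hom = (yon S).map b ≫ p.toHom := by
    rw [Functor.map_comp, Category.assoc, ← FieldPt.toHom_ofPt]
    exact hab
  have hW : Etale (E.property.1.snd p.toHom).left :=
    E.property.2 p.toHom _ _ (E.property.1.isPullback p.toHom)
  let c : Over.mk w ⟶ E.property.1.pullback p.toHom := E.property.1.lift' _ b hab'
  have : IsSepClosed p.K :=
    have : IsAlgClosed p.K := hp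
    inferInstance
  obtain ⟨s, hs, hs'⟩ := Scheme.exists_fac_of_etale_of_isSepClosed (E.property.1.snd p.toHom).left
    (𝟙 (Spec (CommRingCat.of p.K))) (c.left (IsLocalRing.closedPoint Ω))
    (@Subsingleton.elim (↥(Spec (CommRingCat.of p.K))) inferInstance _ _)
  let s' : p.pt ⟶ E.property.1.pullback p.toHom := Over.homMk s (by
    rw [← Over.w (E.property.1.snd p.toHom)]
    change s ≫ (E.property.1.snd p.toHom).left ≫ p.str = p.str
    rw [reassoc_of% hs])
  have hs₁ : s' ≫ E.property.1.snd p.toHom = 𝟙 _ := by ext : 1; exact hs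
  refine ⟨⟨s' ≫ E.property.1.fst' p.toHom, ?_⟩, ?_⟩
  · rw [Functor.map_comp, Category.assoc, Functor.relativelyRepresentable.map_fst',
      (E.property.1.isPullback p.toHom).w, ← Functor.map_comp_assoc, hs₁]
    exact (congrArg (· ≫ p.toHom) ((yon S).map_id _)).trans (Category.id_comp _)
  · have h0 : (default : ↥(Spec (CommRingCat.of p.K))) = pt₀ p := Subsingleton.elim _ _
    rw [Over.comp_left, Scheme.Hom.comp_apply]
    change (E.property.1.fst' p.toHom).left (s (pt₀ p)) = u
    rw [← h0, hs', ← Scheme.Hom.comp_apply, ← Over.comp_left,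
      Functor.relativelyRepresentable.lift'_fst, Over.comp_left, Scheme.Hom.comp_apply]
    exact Scheme.fromSpecResidueField_apply _ _

/-- Lifts along a morphism of the site, hitting a given point. -/
theorem exists_lift_map (p : FieldPt X) (hp : p.IsGeometric) {V E : EtOver X} (φ : V ⟶ E)
    (l : (FieldPt.liftsTo p).obj E) (v : ↥V.obj.left.left)
    (hv : φ.hom.left.left v = l.1.left (pt₀ p)) :
    ∃ l' : (FieldPt.liftsTo p).obj V,
      (FieldPt.liftsTo p).map φ l' = l ∧ l'.1.left (pt₀ p) = v := by
  have : IsSepClosed p.K :=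
    have : IsAlgClosed p.K := hp
    inferInstance
  have := EtOver.etale_left φ
  have h0 : (default : ↥(Spec (CommRingCat.of p.K))) = pt₀ p := Subsingleton.elim _ _
  obtain ⟨s, hs, hs'⟩ := Scheme.exists_fac_of_etale_of_isSepClosed φ.hom.left.left
    (l.1.left : Spec (CommRingCat.of p.K) ⟶ _) v (by rw [h0]; exact hv)
  let s' : p.pt ⟶ V.obj.left := Over.homMk s (by
    rw [← Over.w φ.hom.left, reassoc_of% hs]
    exact Over.w l.1)
  have hs'' : s' ≫ φ.hom.left = l.1 := by ext : 1; exact hs
  refine ⟨⟨s', ?_⟩, Subtype.ext hs'', by rw [← h0]; exact hs'⟩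
  rw [← EtOver.w φ, ← Functor.map_comp_assoc, hs'']
  exact l.2

/-- Over every point of a chart there is a geometric point together with a lift through it. -/
theorem exists_geometric_over {T : Over S} (g : (yon S).obj T ⟶ X) (t : ↥T.left) :
    ∃ (p : FieldPt X) (l : p.pt ⟶ T), p.IsGeometric ∧ (yon S).map l ≫ g = p.toHom ∧
      l.left (pt₀ p) = t := by
  let κ := T.left.residueField t
  let m : Spec (CommRingCat.of (AlgebraicClosure κ)) ⟶ T.left :=
    Spec.map (CommRingCat.ofHom (algebraMap κ (AlgebraicClosure κ))) ≫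
      T.left.fromSpecResidueField t
  let l : Over.mk (m ≫ T.hom) ⟶ T := Over.homMk m rfl
  refine ⟨ofHom (m ≫ T.hom) ((yon S).map l ≫ g), l, ?_, (toHom_ofHom _ _).symm, ?_⟩
  · exact (inferInstance : IsAlgClosed (AlgebraicClosure κ))
  · change m (IsLocalRing.closedPoint _) = t
    simp only [m, Scheme.Hom.comp_apply]
    exact Scheme.fromSpecResidueField_apply _ _

/-- Every class of field-valued points contains a geometric one. -/
theorem exists_geometric (x : Points X) :
    ∃ p : FieldPt X, p.IsGeometric ∧ Points.mk p = x := by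
  obtain ⟨q, rfl⟩ := Points.mk_surjective x
  obtain ⟨p, l, hp, hl, -⟩ := exists_geometric_over q.toHom (IsLocalRing.closedPoint q.K)
  refine ⟨p, hp, (mk_eq_ofPt p _ l hl).trans ?_⟩
  exact Points.ofPt_toHom q _

/-- The points hit by an etale chart form an open subset. -/
theorem isOpen_range_ofPt (E : EtOver X) : IsOpen (Set.range (Points.ofPt E.obj.hom)) := by
  rw [Points.isOpen_iff]
  intro T g
  have hW : Etale (E.property.1.snd g).left := E.property.2 g _ _ (E.property.1.isPullback g)
  have : Points.ofPt g ⁻¹' Set.range (Points.ofPt E.obj.hom) =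
      Set.range (E.property.1.snd g).left := by
    ext t
    constructor
    · rintro ⟨u, hu⟩
      obtain ⟨p, l, hp, hl, hlt⟩ := exists_geometric_over g t
      obtain ⟨m, hm⟩ := exists_lift p hp E u (by rw [hu, mk_eq_ofPt p g l hl, hlt])
      refine ⟨(E.property.1.lift' m.1 l (m.2.trans hl.symm)).left (pt₀ p), ?_⟩
      rw [← Scheme.Hom.comp_apply, ← Over.comp_left, Functor.relativelyRepresentable.lift'_snd,
        hlt]
    · rintro ⟨w, rfl⟩
      refine ⟨(E.property.1.fst' g).left w, ?_⟩
      obtain ⟨p, l, -, hl, hlw⟩ :=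
        exists_geometric_over ((yon S).map (E.property.1.snd g) ≫ g) w
      have h₁ : (yon S).map (l ≫ E.property.1.fst' g) ≫ E.obj.hom = p.toHom := by
        rw [Functor.map_comp, Category.assoc, Functor.relativelyRepresentable.map_fst',
          (E.property.1.isPullback g).w]
        exact hl
      have h₂ : (yon S).map (l ≫ E.property.1.snd g) ≫ g = p.toHom := by
        rw [Functor.map_comp, Category.assoc]
        exact hl
      have e₁ := mk_eq_ofPt p _ _ h₁
      have e₂ := mk_eq_ofPt p _ _ h₂
      rw [Over.comp_left, Scheme.Hom.comp_apply, hlw] at e₁ e₂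
      exact e₁.symm.trans e₂
  rw [this]
  exact (E.property.1.snd g).left.isOpenMap.isOpen_range

end Groth.Agent.Lib.AlgSpStalk.Lifts
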