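import Groth.Agent.Lib.AlgSpStalk.Point
import Mathlib.CategoryTheory.Limits.Preserves.Filtered
import Mathlib.Algebra.Category.Grp.EpiMono
import Mathlib.Algebra.Homology.ShortComplex.Ab

/-!
# Exactness and conservativity of the stalk functors on the small etale site
-/

universe v' u' u

set_option backward.isDefEq.respectTransparency false

open CategoryTheory CategoryTheory.Limits AlgebraicGeometry Opposite AlgSp
open Groth.Agent.Lib.AlgSpStalk.Lifts Groth.Agent.Lib.AlgSpStalk.Point
open scoped ZeroObject

namespace Groth.Agent.Lib.AlgSpStalk.Stalks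

instance ab5Type : AB5OfSize.{u, u} (Type (u + 1)) :=
  AB5OfSize_shrink.{u, u, u + 1, u + 1} (Type (u + 1))

instance ab5Ab : AB5OfSize.{u, u} AddCommGrpCat.{u + 1} :=
  AB5OfSize_shrink.{u, u, u + 1, u + 1} AddCommGrpCat.{u + 1}

instance preservesFilteredForgetAb :
    PreservesFilteredColimitsOfSize.{u, u} (forget AddCommGrpCat.{u + 1}) :=
  preservesFilteredColimitsOfSize_shrink.{u, u + 1, u, u + 1} _

variable {S : Scheme.{u}} {X : Sp S}

/-- A family of morphisms lifting every geometric point is covering. -/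
theorem mem_etTop {E : EtOver X} (R : Sieve E)
    (h : ∀ (p : FieldPt X), p.IsGeometric → ∀ x : (FieldPt.liftsTo p).obj E,
      ∃ (V : EtOver X) (f : V ⟶ E) (_ : R f) (y : (FieldPt.liftsTo p).obj V),
        (FieldPt.liftsTo p).map f y = x) :
    R ∈ etTop X E := by
  let ι := {f : (Σ V : EtOver X, V ⟶ E) // R f.2}
  refine (etTop X).superset_covering ?_
    (ofArrows_mem_etTop (fun i : ι => i.1.1) (fun i : ι => i.1.2) fun x => ?_)
  · rw [Sieve.generate_le_iff]
    rintro V f ⟨i⟩
    exact i.2
  · obtain ⟨p, l, hp, hl, hlx⟩ := exists_geometric_over E.obj.hom x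
    obtain ⟨V, f, hf, y, hy⟩ := h p hp ⟨l, hl⟩
    refine ⟨⟨⟨V, f⟩, hf⟩, y.1.left (pt₀ p), ?_⟩
    rw [← hlx, ← show y.1 ≫ f.hom.left = l from congrArg Subtype.val hy]
    rfl

variable (hX : IsAlgSpace X)
variable {A : Type u'} [Category.{v'} A] [HasColimitsOfSize.{u, u} A]
  {FC : A → A → Type*} {CC : A → Type (u + 1)}
  [∀ (M N : A), FunLike (FC M N) (CC M) (CC N)] [ConcreteCategory.{u + 1} A FC]
  [PreservesFilteredColimitsOfSize.{u, u} (forget A)]

include hX in
/-- Injective on geometric stalks implies locally injective. -/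
theorem isLocallyInjective {P Q : (EtOver X)ᵒᵖ ⥤ A} (a : P ⟶ Q)
    (h : ∀ (p : FieldPt X) (hp : p.IsGeometric),
      Function.Injective ((etPoint hX p hp).presheafFiber.map a)) :
    Presheaf.IsLocallyInjective (etTop X) a where
  equalizerSieve_mem {E} s t hst := mem_etTop _ fun p hp x => by
    have h₁ : (etPoint hX p hp).toPresheafFiber E.unop x P s =
        (etPoint hX p hp).toPresheafFiber E.unop x P t := by
      refine h p hp ?_
      rw [GrothendieckTopology.Point.toPresheafFiber_naturality_apply,
        GrothendieckTopology.Point.toPresheafFiber_naturality_apply]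
      exact congrArg _ hst
    obtain ⟨V, f, y, hy, hst'⟩ :=
      ((etPoint hX p hp).toPresheafFiber_eq_iff' E.unop x s t).1 h₁
    exact ⟨V, f, hst', y, hy⟩

include hX in
/-- Surjective on geometric stalks implies locally surjective. -/
theorem isLocallySurjective {P Q : (EtOver X)ᵒᵖ ⥤ A} (a : P ⟶ Q)
    (h : ∀ (p : FieldPt X) (hp : p.IsGeometric),
      Function.Surjective ((etPoint hX p hp).presheafFiber.map a)) :
    Presheaf.IsLocallySurjective (etTop X) a where
  imageSieve_mem {E} s := mem_etTop _ fun p hp x => by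
    obtain ⟨b, hb⟩ := h p hp ((etPoint hX p hp).toPresheafFiber E x Q s)
    obtain ⟨V, y, z, rfl⟩ := (etPoint hX p hp).toPresheafFiber_jointly_surjective (A := A) b
    rw [GrothendieckTopology.Point.toPresheafFiber_naturality_apply] at hb
    have := isCofiltered hX p hp
    let N₁ : EtNbhd p := ⟨E, x⟩
    let N₂ : EtNbhd p := ⟨V, y⟩
    obtain ⟨W, f, g, -⟩ := IsCofilteredOrEmpty.cone_objs N₁ N₂
    have hf : (FieldPt.liftsTo p).map f.1 W.2 = x := f.2
    have hg : (FieldPt.liftsTo p).map g.1 W.2 = y := g.2
    have h₁ : (etPoint hX p hp).toPresheafFiber W.1 W.2 Q (Q.map g.1.op (a.app (op V) z)) =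
        (etPoint hX p hp).toPresheafFiber W.1 W.2 Q (Q.map f.1.op s) := by
      rw [GrothendieckTopology.Point.toPresheafFiber_w_apply,
        GrothendieckTopology.Point.toPresheafFiber_w_apply]
      refine Eq.trans ?_ (hb.trans ?_)
      · exact congrArg (fun l => (etPoint hX p hp).toPresheafFiber V l Q (a.app (op V) z)) hg
      · exact (congrArg (fun l => (etPoint hX p hp).toPresheafFiber E l Q s) hf).symm
    obtain ⟨W', k, w', hw', hk⟩ :=
      ((etPoint hX p hp).toPresheafFiber_eq_iff' W.1 W.2 _ _).1 h₁
    refine ⟨W', k ≫ f.1, ⟨P.map (k ≫ g.1).op z, ?_⟩, w', ?_⟩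
    · rw [NatTrans.naturality_apply]
      simpa only [op_comp, Functor.map_comp_apply] using hk
    · rw [Functor.map_comp_apply]
      exact (congrArg _ hw').trans hf

variable (p : FieldPt X) (hp : p.IsGeometric)

include hX hp in
theorem preservesFiniteLimits_psh_type :
    PreservesFiniteLimits (stalkEtPshFunctor (Type (u + 1)) p) :=
  (inferInstance : PreservesFiniteLimits ((etPoint hX p hp).presheafFiber (A := Type (u + 1))))

include hX hp in
theorem preservesFiniteLimits_psh_ab :
    PreservesFiniteLimits (stalkEtPshFunctor AddCommGrpCat.{u + 1} p) :=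
  (inferInstance :
    PreservesFiniteLimits ((etPoint hX p hp).presheafFiber (A := AddCommGrpCat.{u + 1})))

include hX hp in
theorem preservesFiniteColimits_psh_ab :
    PreservesFiniteColimits (stalkEtPshFunctor AddCommGrpCat.{u + 1} p) :=
  PreservesColimitsOfSize.preservesFiniteColimits.{u, u}
    ((etPoint hX p hp).presheafFiber (A := AddCommGrpCat.{u + 1}))

include hX hp in
theorem preservesFiniteLimits_type :
    PreservesFiniteLimits (stalkEtFunctor (Type (u + 1)) p) :=
  (inferInstance : PreservesFiniteLimits ((etPoint hX p hp).sheafFiber (A := Type (u + 1))))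

include hX hp in
theorem preservesFiniteColimits_type :
    PreservesFiniteColimits (stalkEtFunctor (Type (u + 1)) p) :=
  (inferInstance : PreservesFiniteColimits ((etPoint hX p hp).sheafFiber (A := Type (u + 1))))

include hX hp in
theorem preservesFiniteLimits_ab :
    PreservesFiniteLimits (stalkEtFunctor AddCommGrpCat.{u + 1} p) :=
  (inferInstance :
    PreservesFiniteLimits ((etPoint hX p hp).sheafFiber (A := AddCommGrpCat.{u + 1})))

include hX hp in
theorem preservesFiniteColimits_ab :
    PreservesFiniteColimits (stalkEtFunctor AddCommGrpCat.{u + 1} p) :=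
  (inferInstance :
    PreservesFiniteColimits ((etPoint hX p hp).sheafFiber (A := AddCommGrpCat.{u + 1})))

omit p hp in
include hX in
theorem mono_iff_type {F G : EtSh X (Type (u + 1))} (a : F ⟶ G) :
    Mono a ↔ ∀ p : FieldPt X, p.IsGeometric →
      Function.Injective ((stalkEtFunctor (Type (u + 1)) p).map a) := by
  refine ⟨fun _ p hp => ?_, fun h => ?_⟩
  · have := preservesFiniteLimits_type hX p hp
    exact (mono_iff_injective _).1 inferInstance
  · have : Sheaf.IsLocallyInjective a := isLocallyInjective hX a.hom fun p hp => h p hp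
    exact Sheaf.mono_of_isLocallyInjective a

omit p hp in
include hX in
theorem epi_iff_type {F G : EtSh X (Type (u + 1))} (a : F ⟶ G) :
    Epi a ↔ ∀ p : FieldPt X, p.IsGeometric →
      Function.Surjective ((stalkEtFunctor (Type (u + 1)) p).map a) := by
  refine ⟨fun _ p hp => ?_, fun h => ?_⟩
  · have := preservesFiniteColimits_type hX p hp
    exact (epi_iff_surjective _).1 inferInstance
  · have : Sheaf.IsLocallySurjective a := isLocallySurjective hX a.hom fun p hp => h p hp
    infer_instance

omit p hp in
include hX in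
theorem mono_iff_ab {F G : AbEt X} (a : F ⟶ G) :
    Mono a ↔ ∀ p : FieldPt X, p.IsGeometric →
      Function.Injective ((stalkEtFunctor AddCommGrpCat.{u + 1} p).map a) := by
  refine ⟨fun _ p hp => ?_, fun h => ?_⟩
  · have := preservesFiniteLimits_ab hX p hp
    exact ConcreteCategory.injective_of_mono_of_preservesPullback _
  · have : Sheaf.IsLocallyInjective a := isLocallyInjective hX a.hom fun p hp => h p hp
    exact Sheaf.mono_of_isLocallyInjective a

omit p hp in
include hX in
theorem epi_iff_ab {F G : AbEt X} (a : F ⟶ G) :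
    Epi a ↔ ∀ p : FieldPt X, p.IsGeometric →
      Function.Surjective ((stalkEtFunctor AddCommGrpCat.{u + 1} p).map a) := by
  refine ⟨fun _ p hp => ?_, fun h => ?_⟩
  · have := preservesFiniteColimits_ab hX p hp
    exact (AddCommGrpCat.epi_iff_surjective _).1 inferInstance
  · have : Sheaf.IsLocallySurjective a := isLocallySurjective hX a.hom fun p hp => h p hp
    infer_instance

omit p hp in
include hX in
theorem isIso_iff_ab {F G : AbEt X} (a : F ⟶ G) :
    IsIso a ↔ ∀ p : FieldPt X, p.IsGeometric →
      Function.Bijective ((stalkEtFunctor AddCommGrpCat.{u + 1} p).map a) := by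
  refine ⟨fun _ p _ => ConcreteCategory.bijective_of_isIso _, fun h => ?_⟩
  have := (mono_iff_ab hX a).2 fun p hp => (h p hp).1
  have := (epi_iff_ab hX a).2 fun p hp => (h p hp).2
  exact isIso_of_mono_of_epi a

omit p hp in
include hX in
theorem isZero_iff_ab (F : AbEt X) :
    IsZero F ↔ ∀ p : FieldPt X, p.IsGeometric → IsZero (stalkEt p F) := by
  refine ⟨fun h p hp => ?_, fun h => ?_⟩
  · have := preservesFiniteLimits_ab hX p hp
    exact (stalkEtFunctor AddCommGrpCat.{u + 1} p).map_isZero h
  · have : Mono (0 : F ⟶ 0) := (mono_iff_ab hX _).2 fun p hp =>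
      @Function.injective_of_subsingleton _ _ (AddCommGrpCat.subsingleton_of_isZero (h p hp)) _
    exact IsZero.of_mono (0 : F ⟶ 0) (isZero_zero _)

omit p hp in
include hX in
theorem exact_iff (C : ShortComplex (AbEt X)) :
    C.Exact ↔ ∀ p : FieldPt X, p.IsGeometric →
      ∀ y : ↥((stalkEtFunctor AddCommGrpCat.{u + 1} p).obj C.X₂),
        ((stalkEtFunctor AddCommGrpCat.{u + 1} p).map C.g) y = 0 →
          ∃ x : ↥((stalkEtFunctor AddCommGrpCat.{u + 1} p).obj C.X₁),
            ((stalkEtFunctor AddCommGrpCat.{u + 1} p).map C.f) x = y := by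
  refine ⟨fun h p hp => ?_, fun h => ?_⟩
  · have := preservesFiniteLimits_ab hX p hp
    have := preservesFiniteColimits_ab hX p hp
    exact (ShortComplex.ab_exact_iff _).1 (h.map (stalkEtFunctor AddCommGrpCat.{u + 1} p))
  · rw [ShortComplex.exact_iff_isZero_homology, isZero_iff_ab hX]
    intro p hp
    have := preservesFiniteLimits_ab hX p hp
    have := preservesFiniteColimits_ab hX p hp
    exact ((ShortComplex.exact_iff_isZero_homology _).1 ((ShortComplex.ab_exact_iff
      (C.map (stalkEtFunctor AddCommGrpCat.{u + 1} p))).2 (h p hp))).of_iso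
      (C.mapHomologyIso (stalkEtFunctor AddCommGrpCat.{u + 1} p)).symm

end Groth.Agent.Lib.AlgSpStalk.Stalks
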