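import Groth.Agent.Lib.AlgSpStalk.LocalRingApps
import Groth.Agent.Lib.AlgSpace.Points
import Groth.Agent.Lib.AlgSpMor.LocP
import Groth.Agent.Lib.Unram.BranchNbhd
import Groth.Prelude.Def_CAlgX

/-!
# Geometric branches of algebraic spaces at a point
-/

universe u

set_option backward.isDefEq.respectTransparency false

open CategoryTheory CategoryTheory.Limits AlgebraicGeometry Opposite AlgSp
open Groth.Agent.Lib.AlgSpStalk.Lifts Groth.Agent.Lib.AlgSpStalk.Point

namespace Groth.Agent.Lib.AlgSpStalk.Branches

open Unram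

theorem encard_minimalPrimes_congr {R S : Type*} [CommRing R] [CommRing S] (e : R ≃+* S) :
    (minimalPrimes R).encard = (minimalPrimes S).encard := by
  have h := Ideal.comap_minimalPrimes_eq_of_surjective (f := e.toRingHom) e.surjective (⊥ : Ideal S)
  rw [show (⊥ : Ideal S).comap e.toRingHom = ⊥ from
    (RingHom.injective_iff_ker_eq_bot _).mp e.injective] at h
  have h' : (⊥ : Ideal R).minimalPrimes = Ideal.comap e.toRingHom '' (⊥ : Ideal S).minimalPrimes := h
  change (⊥ : Ideal R).minimalPrimes.encard = (⊥ : Ideal S).minimalPrimes.encard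
  rw [h', (Ideal.comap_injective_of_surjective e.toRingHom e.surjective).encard_image]

theorem hasUniqueMinimalPrime_iff (A : Type u) [CommRing A] :
    CAlgX.HasUniqueMinimalPrime A ↔ (minimalPrimes A).encard = 1 := by
  rw [Set.encard_eq_one]
  exact ⟨fun ⟨P, hP, hu⟩ => ⟨P, Set.ext fun Q => ⟨hu Q, fun h =>
      (Set.mem_singleton_iff.mp h).symm ▸ hP⟩⟩,
    fun ⟨P, hP⟩ => ⟨P, show P ∈ minimalPrimes A from hP ▸ rfl,
      fun Q hQ => (Set.ext_iff.mp hP Q).mp hQ⟩⟩

variable {S : Scheme.{u}} {X : Sp S} (hX : IsAlgSpace X)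

include hX in
/-- The etale local ring has as many minimal primes as the chart has geometric branches. -/
theorem encard_OEtStalk (p : FieldPt X) (hp : p.IsGeometric) {U : Over S} (a : (yon S).obj U ⟶ X)
    (u : ↥U.left) (ha : RepWith @Etale a) (hu : Points.ofPt a u = Points.mk p) :
    (minimalPrimes (OEtStalk p)).encard = Brnch.numGeomBranchesAt U.left u := by
  have := LocalRingApps.isSepClosed hp
  obtain ⟨l, hl⟩ := exists_lift p hp (EtOver.mk a ha) u hu
  obtain ⟨_, _, _⟩ := EtLocalRing.exists_isStrictHenselization (ξ := LocalRing.xi l)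
  rw [encard_minimalPrimes_congr (LocalRing.equiv l hX hp), ← ENat.card_coe_set_eq,
    BranchHenselian.card_minimalPrimes_strictHenselization
      ((EtOver.mk a ha).obj.left.left.presheaf.stalk ((LocalRing.xi l).base default)) _]
  change Brnch.numGeomBranchesAt U.left ((LocalRing.xi l).base default) = _
  rw [LocalRingApps.default_eq]
  exact congrArg _ hl

/-- The local ring of a chart has at most as many minimal primes as geometric branches. -/
theorem encard_stalk_le (U : Scheme.{u}) (u : U) :
    (minimalPrimes (U.presheaf.stalk u)).encard ≤ Brnch.numGeomBranchesAt U u := by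
  have := BranchNbhd.encard_le_numGeomBranches (𝟙 U) u
  rw [BranchNbhd.components_encard, ENat.card_coe_set_eq] at this
  exact this

theorem one_le (U : Scheme.{u}) (u : U) : 1 ≤ (minimalPrimes (U.presheaf.stalk u)).encard := by
  have := BranchNbhd.one_le_encard U u
  rwa [BranchNbhd.components_encard, ENat.card_coe_set_eq] at this

/-- Geometric branches are seen on some etale chart. -/
theorem exists_chart {U : Over S} (a : (yon S).obj U ⟶ X) (u : ↥U.left) (ha : RepWith @Etale a)
    (n : ℕ) (hn : (n : ℕ∞) ≤ Brnch.numGeomBranchesAt U.left u) :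
    ∃ (U' : Over S) (a' : (yon S).obj U' ⟶ X) (u' : ↥U'.left), RepWith @Etale a' ∧
      Points.ofPt a' u' = Points.ofPt a u ∧
      (n : ℕ∞) ≤ (minimalPrimes (U'.left.presheaf.stalk u')).encard := by
  let T := Henselian.StrictHenselization.StrictHenselization (U.left.presheaf.stalk u)
  rw [Brnch.numGeomBranchesAt, ← BranchHenselian.card_minimalPrimes_strictHenselization _ T] at hn
  obtain ⟨V, g, v, hg, hgv, -, h⟩ :=
    BranchNbhd.exists_nbhd u T Henselian.IndEtale.isIndEtale_lim n hn
  rw [BranchNbhd.components_encard, ENat.card_coe_set_eq] at h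
  let k : Over.mk (g ≫ U.hom) ⟶ U := Over.homMk g rfl
  have : Etale k.left := hg
  refine ⟨Over.mk (g ≫ U.hom), (yon S).map k ≫ a, v, AlgSpMor.LocP.repWith_etale_comp k ha, ?_, h⟩
  rw [AlgSpace.ofPt_yon_map_comp]
  exact congrArg _ hgv

include hX in
/-- Some chart passes through every point. -/
theorem exists_chart_at (x : Points X) : ∃ (U : Over S) (a : (yon S).obj U ⟶ X) (u : ↥U.left),
    RepWith @Etale a ∧ Points.ofPt a u = x := by
  obtain ⟨p, hp, rfl⟩ := exists_geometric x
  obtain ⟨⟨E, l⟩⟩ := exists_nbhd hX p hp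
  exact ⟨E.obj.left, E.obj.hom, _, E.property, ofPt_lift p l⟩

end Groth.Agent.Lib.AlgSpStalk.Branches
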