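import Groth.Agent.Lib.EtSite.LocalRing
import Groth.Agent.Lib.Henselian.LimProps
import Groth.Agent.Lib.Henselian.Permanence
import Groth.Agent.Lib.Regular.Descent
import Mathlib.RingTheory.Unramified.LocalRing

/-!
# The etale local ring of a scheme over an affine chart

The etale local ring `T` at a geometric point is `Lim A Ω'` for any affine open `Spec A` around the
point, with `Ω'` its residue field; hence it is flat over `A`, has discrete fibres over `A`, and its
maximal ideal is extended. This gives dimension, Noetherianity and regularity.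
-/

universe u

set_option backward.isDefEq.respectTransparency false

open CategoryTheory CategoryTheory.Limits AlgebraicGeometry Opposite
open Groth.Agent.Lib.EtSite.Basic Groth.Agent.Lib.EtSite.LocalRing
open Groth.Agent.Lib.Henselian.Pointed Groth.Agent.Lib.Henselian.Etale

namespace Groth.Agent.Lib.AlgSpStalk.EtLocalRing

variable {X : Scheme.{u}} {Ω : Type u} [Field Ω] [IsSepClosed Ω]
  (ξ : Spec (CommRingCat.of Ω) ⟶ X)

instance isLocalHom_ev : IsLocalHom (ev ξ).hom :=
  ⟨fun z hz => isUnit_of_ev_ne_zero ξ z hz.ne_zero⟩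

/-- An affine open around the image of the geometric point. -/
theorem exists_chart : ∃ W : X.Opens, IsAffineOpen W ∧ ξ.base default ∈ W := by
  obtain ⟨W, hW, hx, -⟩ := exists_isAffineOpen_mem_and_subset (U := ⊤) (x := ξ.base default) trivial
  exact ⟨W, hW, hx⟩

variable {W : X.Opens} (hW : IsAffineOpen W) (hx : ξ.base default ∈ W)

include hx in
theorem exists_point : ∃ a : Γ(X, W) ⟶ CommRingCat.of Ω, Spec.map a ≫ hW.fromSpec = ξ := by
  have hr : Set.range ξ.base ⊆ Set.range hW.fromSpec.base := by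
    rintro _ ⟨t, rfl⟩
    rw [hW.range_fromSpec, Subsingleton.elim t default]
    exact hx
  exact ⟨Spec.preimage (IsOpenImmersion.lift hW.fromSpec ξ hr), by
    rw [Spec.map_preimage, IsOpenImmersion.lift_fac]⟩

/-- An etale algebra over the chart as an etale scheme over `X`. -/
noncomputable def nbhd {B : CommRingCat.{u}} (σ : Γ(X, W) ⟶ B) (hσ : σ.hom.Etale) : X.Etale :=
  MorphismProperty.Over.mk ⊤ (Spec.map σ ≫ hW.fromSpec)
    (show Etale _ from
      have : Etale (Spec.map σ) := (HasRingHomProperty.Spec_iff (P := @Etale)).2 hσ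
      inferInstance)

variable {ξ} {a : Γ(X, W) ⟶ CommRingCat.of Ω} (ha : Spec.map a ≫ hW.fromSpec = ξ)

/-- The fibre point of a pointed etale algebra over the chart. -/
noncomputable def pt {B : CommRingCat.{u}} (σ : Γ(X, W) ⟶ B) (hσ : σ.hom.Etale)
    (ω : B ⟶ CommRingCat.of Ω) (hω : σ ≫ ω = a) :
    (Scheme.pointSmallEtale ξ).fiber.obj (nbhd hW σ hσ) :=
  mkFiber ξ (nbhd hW σ hσ) (Spec.map ω) (by
    change Spec.map ω ≫ Spec.map σ ≫ hW.fromSpec = ξ
    rw [← Spec.map_comp_assoc, hω, ha])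

/-- The germ map of a pointed etale algebra over the chart. -/
noncomputable def germA {B : CommRingCat.{u}} (σ : Γ(X, W) ⟶ B) (hσ : σ.hom.Etale)
    (ω : B ⟶ CommRingCat.of Ω) (hω : σ ≫ ω = a) : B ⟶ EtBase.etaleLocalRing ξ :=
  (Scheme.ΓSpecIso B).inv ≫ germ ξ (nbhd hW σ hσ) (pt hW ha σ hσ ω hω)

theorem germA_ev {B : CommRingCat.{u}} (σ : Γ(X, W) ⟶ B) (hσ : σ.hom.Etale)
    (ω : B ⟶ CommRingCat.of Ω) (hω : σ ≫ ω = a) :
    germA hW ha σ hσ ω hω ≫ ev ξ = ω := by
  unfold germA
  rw [Category.assoc]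
  erw [germ_ev]
  change (Scheme.ΓSpecIso B).inv ≫ (Spec.map ω).appTop ≫ (Scheme.ΓSpecIso _).hom = ω
  rw [Scheme.ΓSpecIso_naturality, Iso.inv_hom_id_assoc]

theorem germA_comp {B B' : CommRingCat.{u}} (σ : Γ(X, W) ⟶ B) (hσ : σ.hom.Etale)
    (ω : B ⟶ CommRingCat.of Ω) (hω : σ ≫ ω = a) (σ' : Γ(X, W) ⟶ B') (hσ' : σ'.hom.Etale)
    (ω' : B' ⟶ CommRingCat.of Ω) (hω' : σ' ≫ ω' = a) (ρ : B ⟶ B') (hρ : σ ≫ ρ = σ')
    (hρ' : ρ ≫ ω' = ω) :
    ρ ≫ germA hW ha σ' hσ' ω' hω' = germA hW ha σ hσ ω hω := by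
  let f : nbhd hW σ' hσ' ⟶ nbhd hW σ hσ := MorphismProperty.Over.homMk (Spec.map ρ) (by
    change Spec.map ρ ≫ Spec.map σ ≫ hW.fromSpec = Spec.map σ' ≫ hW.fromSpec
    rw [← Spec.map_comp_assoc, hρ])
  have hf : (Scheme.pointSmallEtale ξ).fiber.map f (pt hW ha σ' hσ' ω' hω') =
      pt hW ha σ hσ ω hω := by
    refine Over.OverMorphism.ext ?_
    change Spec.map ω' ≫ Spec.map ρ = Spec.map ω
    rw [← Spec.map_comp, hρ']
  unfold germA
  rw [← Category.assoc, Scheme.ΓSpecIso_inv_naturality, Category.assoc]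
  congr 1
  rw [← hf]
  exact res_germ ξ f _

/-- Every etale neighbourhood is refined by one over the chart. -/
theorem exists_refine (V : X.Etale) (q : (Scheme.pointSmallEtale ξ).fiber.obj V) :
    ∃ (B : CommRingCat.{u}) (σ : Γ(X, W) ⟶ B) (hσ : σ.hom.Etale) (ω : B ⟶ CommRingCat.of Ω)
      (hω : σ ≫ ω = a) (j : nbhd hW σ hσ ⟶ V),
      (Scheme.pointSmallEtale ξ).fiber.map j (pt hW ha σ hσ ω hω) = q := by
  have hv : fiberPt q ∈ V.hom ⁻¹ᵁ W := by
    change V.hom.base (fiberPt q) ∈ W
    rw [hom_fiberPt]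
    have h1 : ξ.base default ∈ Set.range hW.fromSpec.base :=
      ⟨(Spec.map a).base default, by rw [← ha]; rfl⟩
    rwa [hW.range_fromSpec] at h1
  obtain ⟨W', hW', hvW', hle⟩ := exists_isAffineOpen_mem_and_subset hv
  have : Etale V.hom := V.prop
  let σ := V.hom.appLE W W' hle
  have hσ : σ.hom.Etale := V.hom.etale_appLE hW hW' hle
  have hr : Set.range (fiberHom q).base ⊆ Set.range hW'.fromSpec.base := by
    rintro _ ⟨t, rfl⟩
    rw [hW'.range_fromSpec, Subsingleton.elim t default]
    exact hvW'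
  let ω : Γ(V.left, W') ⟶ CommRingCat.of Ω :=
    Spec.preimage (IsOpenImmersion.lift hW'.fromSpec (fiberHom q) hr)
  have hω' : Spec.map ω ≫ hW'.fromSpec = fiberHom q := by
    rw [Spec.map_preimage, IsOpenImmersion.lift_fac]
  have hj : Spec.map σ ≫ hW.fromSpec = hW'.fromSpec ≫ V.hom :=
    hW.SpecMap_appLE_fromSpec V.hom hW' hle
  have hω : σ ≫ ω = a := by
    apply Spec.map_injective
    rw [← cancel_mono hW.fromSpec, Spec.map_comp, Category.assoc, hj, reassoc_of% hω',
      fiberHom_comp, ha]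
  refine ⟨_, σ, hσ, ω, hω, MorphismProperty.Over.homMk hW'.fromSpec hj.symm, ?_⟩
  exact Over.OverMorphism.ext hω'

theorem exists_germA (z : EtBase.etaleLocalRing ξ) :
    ∃ (B : CommRingCat.{u}) (σ : Γ(X, W) ⟶ B) (hσ : σ.hom.Etale) (ω : B ⟶ CommRingCat.of Ω)
      (hω : σ ≫ ω = a) (b : B), (germA hW ha σ hσ ω hω).hom b = z := by
  obtain ⟨V, q, s, rfl⟩ := exists_germ ξ z
  obtain ⟨B, σ, hσ, ω, hω, j, hj⟩ := exists_refine hW ha V q
  refine ⟨B, σ, hσ, ω, hω, (Scheme.ΓSpecIso B).hom.hom ((res j).hom s), ?_⟩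
  unfold germA
  rw [CommRingCat.comp_apply, ← CommRingCat.comp_apply (Scheme.ΓSpecIso B).hom, Iso.hom_inv_id]
  exact germ_res ξ j _ hj s

theorem exists_germA_eq_zero {B : CommRingCat.{u}} (σ : Γ(X, W) ⟶ B) (hσ : σ.hom.Etale)
    (ω : B ⟶ CommRingCat.of Ω) (hω : σ ≫ ω = a) {b : B}
    (hb : (germA hW ha σ hσ ω hω).hom b = 0) :
    ∃ (B' : CommRingCat.{u}) (σ' : Γ(X, W) ⟶ B') (hσ' : σ'.hom.Etale)
      (ω' : B' ⟶ CommRingCat.of Ω) (hω' : σ' ≫ ω' = a) (ρ : B ⟶ B'),
      σ ≫ ρ = σ' ∧ ρ ≫ ω' = ω ∧ ρ.hom b = 0 := by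
  unfold germA at hb
  rw [CommRingCat.comp_apply, ← map_zero (germ ξ (nbhd hW σ hσ) (pt hW ha σ hσ ω hω)).hom] at hb
  obtain ⟨V, f, q, hq, hf⟩ :=
    ((Scheme.pointSmallEtale ξ).toPresheafFiber_eq_iff' (P := EtBase.OO X) _ _ _ _).1 hb
  obtain ⟨B', σ', hσ', ω', hω', j, hj⟩ := exists_refine hW ha V q
  let ρ : B ⟶ B' := Spec.preimage (j ≫ f).left
  have hρ : Spec.map ρ = (j ≫ f).left := Spec.map_preimage _
  refine ⟨B', σ', hσ', ω', hω', ρ, ?_, ?_, ?_⟩
  · apply Spec.map_injective
    rw [← cancel_mono hW.fromSpec, Spec.map_comp, Category.assoc, hρ]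
    exact Over.w (j ≫ f).hom
  · apply Spec.map_injective
    rw [Spec.map_comp, hρ]
    have := congrArg CommaMorphism.left
      ((((Scheme.pointSmallEtale ξ).fiber.map_comp j f) ▸ rfl :
        (Scheme.pointSmallEtale ξ).fiber.map (j ≫ f) (pt hW ha σ' hσ' ω' hω') =
        (Scheme.pointSmallEtale ξ).fiber.map f
          ((Scheme.pointSmallEtale ξ).fiber.map j (pt hW ha σ' hσ' ω' hω'))).trans
        ((congrArg _ hj).trans hq))
    exact this
  · have h1 : (j ≫ f).left.appTop.hom ((Scheme.ΓSpecIso B).inv.hom b) = 0 := by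
      change (f.left.appTop ≫ j.left.appTop).hom _ = 0
      rw [CommRingCat.comp_apply]
      change j.left.appTop.hom (((EtBase.OO X).map f.op).hom _) = 0
      erw [hf]
      exact (congrArg (res j).hom (map_zero ((EtBase.OO X).map f.op).hom)).trans (map_zero _)
    rw [← hρ] at h1
    have h2 := congrArg (fun k => k.hom b) (Scheme.ΓSpecIso_inv_naturality ρ)
    simp only [CommRingCat.hom_comp, RingHom.comp_apply] at h2
    replace h1 := h2.trans h1
    exact (map_eq_zero_iff (Scheme.ΓSpecIso B').inv.hom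
      (Scheme.ΓSpecIso B').commRingCatIsoToRingEquiv.symm.injective).mp h1

/-- The structure map from the chart. -/
noncomputable abbrev algA : Γ(X, W) ⟶ EtBase.etaleLocalRing ξ :=
  germA hW ha (𝟙 _) (RingHom.Etale.of_bijective Function.bijective_id) a (Category.id_comp a)

theorem algA_ev (r : Γ(X, W)) : (ev ξ).hom ((algA hW ha).hom r) = a.hom r :=
  congrArg (fun k => k.hom r)
    (germA_ev hW ha (𝟙 _) (RingHom.Etale.of_bijective Function.bijective_id) a (Category.id_comp a))

theorem comp_germA {B : CommRingCat.{u}} (σ : Γ(X, W) ⟶ B) (hσ : σ.hom.Etale)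
    (ω : B ⟶ CommRingCat.of Ω) (hω : σ ≫ ω = a) :
    σ ≫ germA hW ha σ hσ ω hω = algA hW ha :=
  germA_comp hW ha _ _ _ _ σ hσ ω hω σ (Category.id_comp _) hω

set_option maxHeartbeats 1000000 in
include hW ha in
/-- The etale local ring is the colimit of the pointed etale algebras over the chart. -/
theorem exists_equiv_lim :
    letI : Algebra Γ(X, W) (EtBase.etaleLocalRing ξ) := (algA hW ha).hom.toAlgebra
    ∃ e : Lim Γ(X, W) (EtBase.etaleLocalRing ξ ⧸
      IsLocalRing.maximalIdeal (EtBase.etaleLocalRing ξ)) ≃ₐ[Γ(X, W)] EtBase.etaleLocalRing ξ,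
      ∀ w, Ideal.Quotient.mk _ (e w) = Lim.α Γ(X, W) _ w := by
  letI : Algebra Γ(X, W) (EtBase.etaleLocalRing ξ) := (algA hW ha).hom.toAlgebra
  have : HenselianLocalRing (EtBase.etaleLocalRing ξ) := (isStrictlyHenselianLocalRing ξ).1
  let m := IsLocalRing.maximalIdeal (EtBase.etaleLocalRing ξ)
  let mk : (EtBase.etaleLocalRing ξ) →ₐ[Γ(X, W)] (EtBase.etaleLocalRing ξ) ⧸ m := Ideal.Quotient.mkₐ Γ(X, W) m
  have : IsLocalHom (Ideal.Quotient.mk m) := inferInstanceAs (IsLocalHom (IsLocalRing.residue (EtBase.etaleLocalRing ξ)))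
  obtain ⟨g, hg, -⟩ := Lim.existsUnique_lift (A := Γ(X, W)) (Ω := (EtBase.etaleLocalRing ξ) ⧸ m) m (AlgHom.id _ _)
  have hgα : ∀ w, mk (g w) = Lim.α _ ((EtBase.etaleLocalRing ξ) ⧸ m) w := fun w => AlgHom.congr_fun hg w
  have hev : ∀ r, (ev ξ).hom (algebraMap Γ(X, W) (EtBase.etaleLocalRing ξ) r) = a.hom r := fun r =>
    algA_ev hW ha r
  refine ⟨AlgEquiv.ofBijective g ⟨?_, fun z => ?_⟩, hgα⟩
  · rw [injective_iff_map_eq_zero]
    intro w hw
    classical
    obtain ⟨A', _, _, _, φ, hφ⟩ := Lim.exists_etale_range {w}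
    obtain ⟨y, rfl⟩ := hφ (Finset.mem_singleton_self w)
    let σ : Γ(X, W) ⟶ CommRingCat.of A' := CommRingCat.ofHom (algebraMap Γ(X, W) A')
    have hσ : σ.hom.Etale := RingHom.etale_algebraMap.mpr inferInstance
    let ω : CommRingCat.of A' ⟶ CommRingCat.of Ω :=
      CommRingCat.ofHom ((ev ξ).hom.comp (g.comp φ).toRingHom)
    have hω : σ ≫ ω = a := by
      ext r
      exact (congrArg (ev ξ).hom ((g.comp φ).commutes r)).trans (hev r)
    let ψ : A' →ₐ[Γ(X, W)] (EtBase.etaleLocalRing ξ) :=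
      { (germA hW ha σ hσ ω hω).hom with
        commutes' := fun r => congrArg (fun k => k.hom r) (comp_germA hW ha σ hσ ω hω) }
    have hψ : ψ = g.comp φ := by
      refine algHom_ext_of_isLocalHom (ev ξ).hom ψ _ fun x => ?_
      exact congrArg (fun k => k.hom x) (germA_ev hW ha σ hσ ω hω)
    obtain ⟨B, τ, hτ, ω', hω', ρ, hρ, hρ', hρy⟩ := exists_germA_eq_zero hW ha σ hσ ω hω (b := y)
      ((AlgHom.congr_fun hψ y).trans hw)
    letI : Algebra Γ(X, W) B := τ.hom.toAlgebra
    have : Algebra.Etale Γ(X, W) B := RingHom.etale_algebraMap.mp hτ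
    let χ : B →ₐ[Γ(X, W)] (EtBase.etaleLocalRing ξ) :=
      { (germA hW ha τ hτ ω' hω').hom with
        commutes' := fun r => congrArg (fun k => k.hom r) (comp_germA hW ha τ hτ ω' hω') }
    let ρ' : A' →ₐ[Γ(X, W)] B :=
      { ρ.hom with commutes' := fun r => congrArg (fun k => k.hom r) hρ }
    have hχ : ∀ x, χ (ρ' x) = ψ x := fun x =>
      congrArg (fun k => k.hom x) (germA_comp hW ha σ hσ ω hω τ hτ ω' hω' ρ hρ hρ')
    obtain ⟨φB, hφB, -⟩ := Lim.existsUnique_map B (mk.comp χ)
    have : φ = φB.comp ρ' := by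
      refine algHom_ext_of_isLocalHom
        (Lim.α Γ(X, W) ((EtBase.etaleLocalRing ξ) ⧸ m) :
          Lim Γ(X, W) ((EtBase.etaleLocalRing ξ) ⧸ m) →+* (EtBase.etaleLocalRing ξ) ⧸ m) _ _ fun x => ?_
      calc Lim.α _ _ (φ x) = mk (g (φ x)) := (hgα _).symm
        _ = mk (ψ x) := congrArg mk (AlgHom.congr_fun hψ x).symm
        _ = mk (χ (ρ' x)) := congrArg mk (hχ x).symm
        _ = Lim.α _ _ (φB (ρ' x)) := (AlgHom.congr_fun hφB _).symm
    rw [this]
    change φB (ρ.hom y) = 0
    rw [hρy, map_zero]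
  · obtain ⟨B, σ, hσ, ω, hω, b, rfl⟩ := exists_germA hW ha z
    letI : Algebra Γ(X, W) B := σ.hom.toAlgebra
    have : Algebra.Etale Γ(X, W) B := RingHom.etale_algebraMap.mp hσ
    let ψ : B →ₐ[Γ(X, W)] (EtBase.etaleLocalRing ξ) :=
      { (germA hW ha σ hσ ω hω).hom with
        commutes' := fun r => congrArg (fun k => k.hom r) (comp_germA hW ha σ hσ ω hω) }
    obtain ⟨φ, hφ, -⟩ := Lim.existsUnique_map B (mk.comp ψ)
    have h : g.comp φ = ψ := by
      refine algHom_ext_of_isLocalHom (Ideal.Quotient.mk m) _ _ fun x => ?_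
      exact (hgα (φ x)).trans (AlgHom.congr_fun hφ x)
    exact ⟨φ b, AlgHom.congr_fun h b⟩

include hW ha in
theorem mem_map_of_ev_eq_zero :
    letI : Algebra Γ(X, W) (EtBase.etaleLocalRing ξ) := (algA hW ha).hom.toAlgebra
    (RingHom.ker a.hom).map (algebraMap Γ(X, W) (EtBase.etaleLocalRing ξ)) =
      IsLocalRing.maximalIdeal (EtBase.etaleLocalRing ξ) := by
  letI : Algebra Γ(X, W) (EtBase.etaleLocalRing ξ) := (algA hW ha).hom.toAlgebra
  have hev : ∀ r, (ev ξ).hom (algebraMap Γ(X, W) (EtBase.etaleLocalRing ξ) r) = a.hom r := fun r =>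
    algA_ev hW ha r
  refine le_antisymm (Ideal.map_le_iff_le_comap.mpr fun r hr => ?_) fun z hz => ?_
  · rw [Ideal.mem_comap, mem_maximalIdeal_iff, hev]
    exact hr
  obtain ⟨B, σ, hσ, ω, hω, b, rfl⟩ := exists_germA hW ha z
  rw [mem_maximalIdeal_iff, ← CommRingCat.comp_apply, germA_ev] at hz
  letI : Algebra Γ(X, W) B := σ.hom.toAlgebra
  have : Algebra.Etale Γ(X, W) B := RingHom.etale_algebraMap.mp hσ
  let p := RingHom.ker a.hom
  let q : Ideal B := RingHom.ker ω.hom
  have : p.IsPrime := RingHom.ker_isPrime a.hom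
  have : q.IsPrime := RingHom.ker_isPrime ω.hom
  have : q.LiesOver p := ⟨by
    change RingHom.ker a.hom = Ideal.comap σ.hom (RingHom.ker ω.hom)
    rw [RingHom.comap_ker, ← CommRingCat.hom_comp, hω]⟩
  let := Localization.AtPrime.algebraOfLiesOver p q
  have h := ((Algebra.isUnramifiedAt_iff_map_eq Γ(X, W) p q).mp inferInstance).2
  have hbmem : algebraMap B (Localization.AtPrime q) b ∈
      (p.map (algebraMap Γ(X, W) B)).map (algebraMap B (Localization.AtPrime q)) := by
    rw [Ideal.map_map, ← IsScalarTower.algebraMap_eq, h, ← Localization.AtPrime.map_eq_maximalIdeal]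
    exact Ideal.mem_map_of_mem _ hz
  rw [IsLocalization.algebraMap_mem_map_algebraMap_iff q.primeCompl] at hbmem
  obtain ⟨s, hs, hsb⟩ := hbmem
  have hu : IsUnit ((germA hW ha σ hσ ω hω).hom s) := by
    refine isUnit_of_ev_ne_zero ξ _ ?_
    rw [← CommRingCat.comp_apply, germA_ev]
    exact hs
  have h2 := Ideal.mem_map_of_mem (germA hW ha σ hσ ω hω).hom hsb
  rw [Ideal.map_map, map_mul, show (germA hW ha σ hσ ω hω).hom.comp (algebraMap Γ(X, W) B) =
    algebraMap Γ(X, W) (EtBase.etaleLocalRing ξ) from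
      congrArg CommRingCat.Hom.hom (comp_germA hW ha σ hσ ω hω)] at h2
  exact (Ideal.unit_mul_mem_iff_mem _ hu).mp h2

/-- `Lim A Ω` is Noetherian as soon as some localization of `A` through which it factors is. -/
theorem isNoetherianRing_lim_of_isLocalization {A : Type u} [CommRing A] {K : Type u} [CommRing K]
    [Algebra A K] [IsLocalRing (Lim A K)] (M : Submonoid A) (R : Type u) [CommRing R] [Algebra A R]
    [IsLocalization M R] [IsNoetherianRing R] [Algebra R (Lim A K)] [IsScalarTower A R (Lim A K)]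
    (a : Ideal A)
    (ha : a.map (algebraMap A (Lim A K)) = IsLocalRing.maximalIdeal (Lim A K)) :
    IsNoetherianRing (Lim A K) := by
  classical
  have : IsNoetherianRing (Lim A K ⧸ IsLocalRing.maximalIdeal (Lim A K)) :=
    let := Ideal.Quotient.field (IsLocalRing.maximalIdeal (Lim A K))
    inferInstance
  have hfg : (IsLocalRing.maximalIdeal (Lim A K)).FG := by
    rw [← ha, IsScalarTower.algebraMap_eq A R (Lim A K), ← Ideal.map_map]
    exact Ideal.FG.map (IsNoetherian.noetherian _) _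
  refine Henselian.NoetherianCriterion.isNoetherianRing_of_fg_closed _ hfg fun J hJ x hx => ?_
  obtain ⟨s, rfl⟩ := hJ
  obtain ⟨A', _, _, _, φ, hφ⟩ := Lim.exists_etale_range (insert x s)
  obtain ⟨z, rfl⟩ := hφ (Finset.mem_insert_self x s)
  let : Algebra A' (Lim A K) := φ.toRingHom.toAlgebra
  have : Module.Flat A' (Lim A K) := Henselian.LimProps.flat_of_etale φ
  let M' := Algebra.algebraMapSubmonoid A' M
  let B := Localization M'
  have hu : ∀ y : M', IsUnit (algebraMap A' (Lim A K) y) := by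
    rintro ⟨_, r, hr, rfl⟩
    change IsUnit (φ (algebraMap A A' r))
    rw [φ.commutes, IsScalarTower.algebraMap_apply A R (Lim A K)]
    exact (IsLocalization.map_units R ⟨r, hr⟩).map _
  let : Algebra B (Lim A K) := (IsLocalization.lift (S := B) hu).toAlgebra
  have : IsScalarTower A' B (Lim A K) :=
    IsScalarTower.of_algebraMap_eq' (IsLocalization.lift_comp hu).symm
  have : Module.Flat B (Lim A K) :=
    (Module.flat_iff_of_isLocalization B M' (Lim A K)).mpr inferInstance
  let : Algebra R B := (IsLocalization.map (M := M) (T := M') B (algebraMap A A')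
    (fun r hr => Algebra.mem_algebraMapSubmonoid_of_mem ⟨r, hr⟩)).toAlgebra
  have : IsScalarTower A R B := IsScalarTower.of_algebraMap_eq' (by
    rw [RingHom.algebraMap_toAlgebra, IsLocalization.map_comp, IsScalarTower.algebraMap_eq A A' B])
  have : Algebra.EssFiniteType A' B := .of_isLocalization B M'
  have : Algebra.EssFiniteType A B := .comp A A' B
  have : Algebra.EssFiniteType R B := .of_comp A R B
  have : IsNoetherianRing B := Algebra.EssFiniteType.isNoetherianRing R B
  let J' : Ideal B := (Ideal.span (φ ⁻¹' (s : Set (Lim A K)))).map (algebraMap A' B)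
  have hJ' : J'.map (algebraMap B (Lim A K)) = Ideal.span (s : Set (Lim A K)) := by
    rw [Ideal.map_map, ← IsScalarTower.algebraMap_eq, Ideal.map_span]
    congr 1
    exact Set.image_preimage_eq_of_subset fun y hy => hφ (Finset.mem_insert_of_mem hy)
  let a' : Ideal B := (a.map (algebraMap A A')).map (algebraMap A' B)
  have haa : a'.map (algebraMap B (Lim A K)) = IsLocalRing.maximalIdeal (Lim A K) := by
    rw [Ideal.map_map, ← IsScalarTower.algebraMap_eq, Ideal.map_map, ← ha]
    exact congrArg (fun g => Ideal.map g a) φ.comp_algebraMap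
  have hz : algebraMap B (Lim A K) (algebraMap A' B z) = φ z :=
    (IsScalarTower.algebraMap_apply A' B (Lim A K) z).symm
  have h1 := Henselian.NoetherianCriterion.mem_map_of_forall_mem_sup (S := Lim A K) a'
    J' haa.le (z := algebraMap A' B z) fun n => by
      rw [Ideal.map_sup, Ideal.map_pow, hJ', haa, hz]
      exact hx n
  rwa [hJ', hz] at h1

/-- The residue field of the etale local ring is separable over that of the chart. -/
theorem isSeparable_residue {B : CommRingCat.{u}} (σ : Γ(X, W) ⟶ B) (hσ : σ.hom.Etale)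
    (ω : B ⟶ CommRingCat.of Ω) (hω : σ ≫ ω = a) {K : Type u} [Field K]
    [Algebra K (IsLocalRing.ResidueField (EtBase.etaleLocalRing ξ))]
    (j : Γ(X, W) →+* K) (hker : RingHom.ker a.hom ≤ RingHom.ker j)
    (hj : ∀ r, algebraMap K (IsLocalRing.ResidueField (EtBase.etaleLocalRing ξ)) (j r) =
      IsLocalRing.residue _ ((algA hW ha).hom r)) (b : B) :
    IsSeparable K (IsLocalRing.residue _ ((germA hW ha σ hσ ω hω).hom b)) := by
  let κ := IsLocalRing.ResidueField (EtBase.etaleLocalRing ξ)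
  let : Algebra Γ(X, W) B := σ.hom.toAlgebra
  have : Algebra.Etale Γ(X, W) B := RingHom.etale_algebraMap.mp hσ
  let p := RingHom.ker a.hom
  let q : Ideal B := RingHom.ker ω.hom
  have : p.IsPrime := RingHom.ker_isPrime a.hom
  have : q.IsPrime := RingHom.ker_isPrime ω.hom
  have : q.LiesOver p := ⟨by
    change RingHom.ker a.hom = Ideal.comap σ.hom (RingHom.ker ω.hom)
    rw [RingHom.comap_ker, ← CommRingCat.hom_comp, hω]⟩
  let := Localization.AtPrime.algebraOfLiesOver p q
  let f : B →+* κ := (IsLocalRing.residue _).comp (germA hW ha σ hσ ω hω).hom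
  have hf₁ : q ≤ RingHom.ker f := fun x hx => by
    change IsLocalRing.residue _ ((germA hW ha σ hσ ω hω).hom x) = 0
    rw [IsLocalRing.residue_eq_zero_iff, mem_maximalIdeal_iff, ← CommRingCat.comp_apply, germA_ev]
    exact hx
  have hf₂ : q.primeCompl ≤ (IsUnit.submonoid κ).comap f := fun x hx => by
    refine IsUnit.map (IsLocalRing.residue _) (isUnit_of_ev_ne_zero ξ _ ?_)
    rw [← CommRingCat.comp_apply, germA_ev]
    exact hx
  let g : q.ResidueField →+* κ := Ideal.ResidueField.lift q f hf₁ hf₂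
  have hK₂ : p.primeCompl ≤ (IsUnit.submonoid K).comap j := fun r hr => by
    refine isUnit_iff_ne_zero.mpr fun h0 => hr ?_
    have h1 := hj r
    rw [h0, map_zero, eq_comm, IsLocalRing.residue_eq_zero_iff, mem_maximalIdeal_iff, algA_ev] at h1
    exact h1
  let i : p.ResidueField →+* K := Ideal.ResidueField.lift p j hker hK₂
  have hsq : (algebraMap K κ).comp i = g.comp (algebraMap p.ResidueField q.ResidueField) :=
    Ideal.ResidueField.ringHom_ext (RingHom.ext fun r => by
      simp only [RingHom.comp_apply, ← IsScalarTower.algebraMap_apply Γ(X, W) p.ResidueField]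
      rw [IsScalarTower.algebraMap_apply Γ(X, W) B q.ResidueField]
      simp only [i, g, Ideal.ResidueField.lift_algebraMap]
      rw [hj]
      exact congrArg (fun k => IsLocalRing.residue _ (k.hom r)) (comp_germA hW ha σ hσ ω hω).symm)
  let z := algebraMap B q.ResidueField b
  have hsep : IsSeparable p.ResidueField z := Algebra.IsSeparable.isSeparable _ _
  have hgz : g z = IsLocalRing.residue _ ((germA hW ha σ hσ ω hω).hom b) :=
    Ideal.ResidueField.lift_algebraMap _ _ _ _ b
  rw [← hgz]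
  refine Polynomial.Separable.of_dvd
    (f := (minpoly p.ResidueField z).map i) (Polynomial.Separable.map hsep) (minpoly.dvd _ _ ?_)
  rw [Polynomial.aeval_def, Polynomial.eval₂_map, hsq, ← Polynomial.hom_eval₂, ← Polynomial.aeval_def,
    minpoly.aeval, map_zero]

omit ha in
/-- The etale local ring compared with the local ring at the point. -/
theorem exists_algebra :
    ∃ (_ : Algebra (X.presheaf.stalk (ξ.base default)) (EtBase.etaleLocalRing ξ))
      (_ : IsLocalHom (algebraMap (X.presheaf.stalk (ξ.base default)) (EtBase.etaleLocalRing ξ))),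
      Module.Flat (X.presheaf.stalk (ξ.base default)) (EtBase.etaleLocalRing ξ) ∧
      (IsLocalRing.maximalIdeal (X.presheaf.stalk (ξ.base default))).map
        (algebraMap _ (EtBase.etaleLocalRing ξ)) =
          IsLocalRing.maximalIdeal (EtBase.etaleLocalRing ξ) ∧
      (∀ {P Q : Ideal (EtBase.etaleLocalRing ξ)} [P.IsPrime] [Q.IsPrime], P ≤ Q →
        P.comap (algebraMap (X.presheaf.stalk (ξ.base default)) _) =
          Q.comap (algebraMap (X.presheaf.stalk (ξ.base default)) _) → P = Q) ∧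
      (IsNoetherianRing (X.presheaf.stalk (ξ.base default)) →
        IsNoetherianRing (EtBase.etaleLocalRing ξ)) ∧
      Hensel.IsStrictHenselization (X.presheaf.stalk (ξ.base default))
        (EtBase.etaleLocalRing ξ) := by
  obtain ⟨W, hW, hx⟩ := exists_chart ξ
  obtain ⟨a, ha⟩ := exists_point ξ hW hx
  letI : Algebra Γ(X, W) (EtBase.etaleLocalRing ξ) := (algA hW ha).hom.toAlgebra
  have hm := mem_map_of_ev_eq_zero hW ha
  obtain ⟨e, he⟩ := exists_equiv_lim hW ha
  have hev : ∀ r, (ev ξ).hom (algebraMap Γ(X, W) (EtBase.etaleLocalRing ξ) r) = a.hom r := fun r =>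
    algA_ev hW ha r
  let R := X.presheaf.stalk (ξ.base default)
  letI : Algebra Γ(X, W) R := X.presheaf.algebra_section_stalk ⟨_, hx⟩
  have : IsLocalization.AtPrime R (hW.primeIdealOf ⟨_, hx⟩).asIdeal :=
    hW.isLocalization_stalk ⟨_, hx⟩
  have hp : (hW.primeIdealOf ⟨_, hx⟩).asIdeal = RingHom.ker a.hom := by
    have h1 : hW.fromSpec.base ((Spec.map a).base default) =
        hW.fromSpec.base (hW.primeIdealOf ⟨_, hx⟩) := by
      rw [hW.fromSpec_primeIdealOf, ← Scheme.Hom.comp_apply, ha]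
    rw [← hW.fromSpec.isOpenEmbedding.injective h1,
      show (default : Spec (CommRingCat.of Ω)) = (⊥ : PrimeSpectrum Ω) from Subsingleton.elim _ _]
    rfl
  have hu : ∀ y : (hW.primeIdealOf ⟨_, hx⟩).asIdeal.primeCompl,
      IsUnit (algebraMap Γ(X, W) (EtBase.etaleLocalRing ξ) y) := fun y => by
    refine isUnit_of_ev_ne_zero ξ _ ?_
    rw [hev]
    intro h0
    exact y.2 ((SetLike.ext_iff.mp hp _).mpr h0)
  letI : Algebra R (EtBase.etaleLocalRing ξ) := (IsLocalization.lift (S := R) hu).toAlgebra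
  have : IsScalarTower Γ(X, W) R (EtBase.etaleLocalRing ξ) :=
    IsScalarTower.of_algebraMap_eq' (IsLocalization.lift_comp hu).symm
  have hmap : (IsLocalRing.maximalIdeal R).map (algebraMap R (EtBase.etaleLocalRing ξ)) = IsLocalRing.maximalIdeal (EtBase.etaleLocalRing ξ) := by
    rw [← IsLocalization.AtPrime.map_eq_maximalIdeal (hW.primeIdealOf ⟨_, hx⟩).asIdeal R,
      Ideal.map_map, ← IsScalarTower.algebraMap_eq, hp, hm]
  have hloc : IsLocalHom (algebraMap R (EtBase.etaleLocalRing ξ)) :=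
    ((IsLocalRing.local_hom_TFAE (algebraMap R (EtBase.etaleLocalRing ξ))).out 2 0).mp hmap.le
  refine ⟨inferInstance, hloc, ?_, hmap, fun {P Q} _ _ hle h => ?_, fun _ => ?_, ?_⟩
  · have : Module.Flat Γ(X, W) (EtBase.etaleLocalRing ξ) := Module.Flat.of_linearEquiv e.symm.toLinearEquiv
    exact (Module.flat_iff_of_isLocalization R (hW.primeIdealOf ⟨_, hx⟩).asIdeal.primeCompl (EtBase.etaleLocalRing ξ)).mpr
      this
  · refine Ideal.comap_injective_of_surjective e.toAlgHom.toRingHom e.surjective ?_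
    refine Henselian.LimProps.eq_of_le_of_comap_eq (Ideal.comap_mono hle) ?_
    rw [Ideal.comap_comap, Ideal.comap_comap,
       show e.toAlgHom.toRingHom.comp (algebraMap Γ(X, W) _) = algebraMap Γ(X, W) (EtBase.etaleLocalRing ξ) from
        e.toAlgHom.comp_algebraMap, IsScalarTower.algebraMap_eq Γ(X, W) R (EtBase.etaleLocalRing ξ),
      ← Ideal.comap_comap, ← Ideal.comap_comap, h]
  · let L := Lim Γ(X, W) ((EtBase.etaleLocalRing ξ) ⧸ IsLocalRing.maximalIdeal (EtBase.etaleLocalRing ξ))
    have : IsLocalRing L := e.symm.toRingEquiv.isLocalRing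
    have hA : algebraMap Γ(X, W) L =
        e.symm.toAlgHom.toRingHom.comp (algebraMap Γ(X, W) (EtBase.etaleLocalRing ξ)) :=
      e.symm.toAlgHom.comp_algebraMap.symm
    have h1 : (RingHom.ker a.hom).map (algebraMap Γ(X, W) L) = IsLocalRing.maximalIdeal L := by
      rw [hA, ← Ideal.map_map, hm]
      exact IsLocalRing.map_maximalIdeal_of_surjective _ e.symm.surjective
    letI : Algebra R L := (e.symm.toAlgHom.toRingHom.comp
      (algebraMap R (EtBase.etaleLocalRing ξ))).toAlgebra
    have : IsScalarTower Γ(X, W) R L := IsScalarTower.of_algebraMap_eq' (by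
      rw [hA, IsScalarTower.algebraMap_eq Γ(X, W) R (EtBase.etaleLocalRing ξ)]
      rfl)
    have : IsNoetherianRing L := isNoetherianRing_lim_of_isLocalization
      (hW.primeIdealOf ⟨_, hx⟩).asIdeal.primeCompl R _ h1
    exact isNoetherianRing_of_ringEquiv L e.toRingEquiv
  · have : IsLocalHom (algebraMap R (EtBase.etaleLocalRing ξ)) := hloc
    refine
      { henselian := (isStrictlyHenselianLocalRing ξ).1
        isSepClosure := ⟨isSepClosed_residueField ξ, ⟨fun x => ?_⟩⟩
        universal := fun T' _ _ f _ τ hτ => ?_ }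
    · obtain ⟨z, rfl⟩ := IsLocalRing.residue_surjective x
      obtain ⟨B, σ, hσ, ω, hω, b, rfl⟩ := exists_germA hW ha z
      refine isSeparable_residue hW ha σ hσ ω hω
        ((IsLocalRing.residue R).comp (algebraMap Γ(X, W) R)) (fun r hr => ?_) (fun r => ?_) b
      · change IsLocalRing.residue R (algebraMap Γ(X, W) R r) = 0
        rw [IsLocalRing.residue_eq_zero_iff,
          IsLocalization.AtPrime.to_map_mem_maximal_iff R (hW.primeIdealOf ⟨_, hx⟩).asIdeal, hp]
        exact hr
      · change IsLocalRing.residue _ (algebraMap R (EtBase.etaleLocalRing ξ)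
          (algebraMap Γ(X, W) R r)) = _
        rw [← IsScalarTower.algebraMap_apply Γ(X, W) R (EtBase.etaleLocalRing ξ)]
        rfl
    · letI : Algebra Γ(X, W) T' := (f.comp (algebraMap Γ(X, W) R)).toAlgebra
      let θ : (EtBase.etaleLocalRing ξ) ⧸ IsLocalRing.maximalIdeal (EtBase.etaleLocalRing ξ)
          →ₐ[Γ(X, W)] T' ⧸ IsLocalRing.maximalIdeal T' :=
        { (show (EtBase.etaleLocalRing ξ) ⧸ IsLocalRing.maximalIdeal (EtBase.etaleLocalRing ξ) →+*
            T' ⧸ IsLocalRing.maximalIdeal T' from τ) with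
          commutes' := fun r => by
            change τ (IsLocalRing.residue _ (algebraMap Γ(X, W) (EtBase.etaleLocalRing ξ) r)) = _
            rw [IsScalarTower.algebraMap_apply Γ(X, W) R (EtBase.etaleLocalRing ξ)]
            exact RingHom.congr_fun hτ (IsLocalRing.residue R (algebraMap Γ(X, W) R r)) }
      obtain ⟨g, hg, huniq⟩ := Lim.existsUnique_lift (IsLocalRing.maximalIdeal T') θ
      refine ⟨(g.comp e.symm.toAlgHom).toRingHom, ⟨?_, fun z => ?_⟩, fun g' hg' => ?_⟩
      · refine IsLocalization.ringHom_ext (hW.primeIdealOf ⟨_, hx⟩).asIdeal.primeCompl ?_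
        rw [RingHom.comp_assoc, ← IsScalarTower.algebraMap_eq]
        exact (g.comp e.symm.toAlgHom).comp_algebraMap
      · refine (AlgHom.congr_fun hg (e.symm z)).trans ?_
        exact congrArg θ ((he (e.symm z)).symm.trans
          (congrArg (Ideal.Quotient.mk _) (e.apply_symm_apply z)))
      · let g'' : (EtBase.etaleLocalRing ξ) →ₐ[Γ(X, W)] T' :=
          { g' with
            commutes' := fun r => by
              change g' (algebraMap Γ(X, W) (EtBase.etaleLocalRing ξ) r) = _
              rw [IsScalarTower.algebraMap_apply Γ(X, W) R (EtBase.etaleLocalRing ξ)]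
              exact RingHom.congr_fun hg'.1 (algebraMap Γ(X, W) R r) }
        have h3 : g''.comp e.toAlgHom = g := huniq _ (AlgHom.ext fun w => by
          exact (hg'.2 (e w)).trans (congrArg θ (he w)))
        refine RingHom.ext fun z => ?_
        change g' z = g (e.symm z)
        rw [← h3]
        exact congrArg g' (e.apply_symm_apply z).symm

/-- The etale local ring has the dimension of the local ring. -/
theorem ringKrullDim_eq :
    ringKrullDim (EtBase.etaleLocalRing ξ) = ringKrullDim (X.presheaf.stalk (ξ.base default)) := by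
  obtain ⟨_, _, hflat, -, hdisc, -, -⟩ := exists_algebra (ξ := ξ)
  have : Module.FaithfullyFlat (X.presheaf.stalk (ξ.base default)) (EtBase.etaleLocalRing ξ) :=
    Module.FaithfullyFlat.of_flat_of_isLocalHom
  exact Henselian.Permanence.ringKrullDim_eq_of_discrete_fibres _ _ hdisc

/-- The etale local ring is Noetherian iff the local ring is. -/
theorem isNoetherianRing_iff :
    IsNoetherianRing (EtBase.etaleLocalRing ξ) ↔
      IsNoetherianRing (X.presheaf.stalk (ξ.base default)) := by
  obtain ⟨_, _, hflat, -, -, h, -⟩ := exists_algebra (ξ := ξ)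
  refine ⟨fun _ => ?_, h⟩
  have : Module.FaithfullyFlat (X.presheaf.stalk (ξ.base default)) (EtBase.etaleLocalRing ξ) :=
    Module.FaithfullyFlat.of_flat_of_isLocalHom
  exact Henselian.NoetherianCriterion.isNoetherianRing_of_faithfullyFlat
    (S := EtBase.etaleLocalRing ξ) _

/-- The etale local ring is regular iff the local ring is. -/
theorem isRegularLocalRing_iff :
    IsRegularLocalRing (EtBase.etaleLocalRing ξ) ↔
      IsRegularLocalRing (X.presheaf.stalk (ξ.base default)) := by
  obtain ⟨_, _, hflat, hm, -, h, -⟩ := exists_algebra (ξ := ξ)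
  refine ⟨fun _ => ?_, fun _ => ?_⟩
  · have := (isNoetherianRing_iff (ξ := ξ)).mp inferInstance
    exact (Regular.Descent.isRegularLocalRing_iff _ hm).mpr ‹_›
  · have := h inferInstance
    exact (Regular.Descent.isRegularLocalRing_iff _ hm).mp ‹_›

/-- The etale local ring is a strict henselization of the local ring. -/
theorem exists_isStrictHenselization :
    ∃ (_ : Algebra (X.presheaf.stalk (ξ.base default)) (EtBase.etaleLocalRing ξ))
      (_ : IsLocalHom (algebraMap (X.presheaf.stalk (ξ.base default)) (EtBase.etaleLocalRing ξ))),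
      Hensel.IsStrictHenselization (X.presheaf.stalk (ξ.base default))
        (EtBase.etaleLocalRing ξ) := by
  obtain ⟨i₁, i₂, -, -, -, -, h⟩ := exists_algebra (ξ := ξ)
  exact ⟨i₁, i₂, h⟩

end Groth.Agent.Lib.AlgSpStalk.EtLocalRing
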