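import Groth.Agent.Lib.AlgSpStalk.Lifts
import Mathlib.CategoryTheory.Sites.Point.Conservative
import Mathlib.Algebra.Category.Grp.AB
import Mathlib.Algebra.Category.Grp.FilteredColimits
import Mathlib.CategoryTheory.Limits.Constructions.Equalizers

/-!
# Geometric points of the small etale site of an algebraic space
-/

universe v' u' u

set_option backward.isDefEq.respectTransparency false

open CategoryTheory CategoryTheory.Limits AlgebraicGeometry Opposite AlgSp
open Groth.Agent.Lib.AlgSpStalk.Lifts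

namespace Groth.Agent.Lib.AlgSpStalk.Point

variable {S : Scheme.{u}} {X : Sp S}

/-- Every point of an algebraic space has an etale neighbourhood. -/
theorem exists_nbhd (hX : IsAlgSpace X) (p : FieldPt X) (hp : p.IsGeometric) :
    Nonempty (EtNbhd p) := by
  obtain ⟨U, q, hq, hq'⟩ := hX.atlas
  let E := EtOver.mk q hq
  have : Surjective (hq'.1.snd p.toHom).left :=
    hq'.2 p.toHom _ _ (hq'.1.isPullback p.toHom)
  obtain ⟨w, -⟩ := (hq'.1.snd p.toHom).left.surjective (pt₀ p)
  obtain ⟨p', l, -, hl, hlw⟩ := exists_geometric_over ((yon S).map (hq'.1.snd p.toHom) ≫ p.toHom) w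
  have h₁ : (yon S).map (l ≫ hq'.1.fst' p.toHom) ≫ q = p'.toHom := by
    rw [Functor.map_comp, Category.assoc, Functor.relativelyRepresentable.map_fst',
      (hq'.1.isPullback p.toHom).w]
    exact hl
  have h₂ : (yon S).map (l ≫ hq'.1.snd p.toHom) ≫ p.toHom = p'.toHom := by
    rw [Functor.map_comp, Category.assoc]
    exact hl
  have e := (mk_eq_ofPt p' _ _ h₁).symm.trans (mk_eq_ofPt p' _ _ h₂)
  rw [Points.ofPt_toHom] at e
  obtain ⟨m, -⟩ := exists_lift p hp E _ e
  exact ⟨⟨E, m⟩⟩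

/-- Morphisms of etale neighbourhoods from morphisms of the site. -/
theorem exists_lift_prod (p : FieldPt X) {E₁ E₂ : EtOver X} (l₁ : (FieldPt.liftsTo p).obj E₁)
    (l₂ : (FieldPt.liftsTo p).obj E₂) :
    ∃ l : (FieldPt.liftsTo p).obj (EtOver.prodObj E₁ E₂),
      (FieldPt.liftsTo p).map (EtOver.prodFst E₁ E₂) l = l₁ ∧
      (FieldPt.liftsTo p).map (EtOver.prodSnd E₁ E₂) l = l₂ := by
  refine ⟨⟨E₂.property.1.lift' l₂.1 l₁.1 (l₂.2.trans l₁.2.symm), ?_⟩, Subtype.ext ?_, Subtype.ext ?_⟩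
  · change (yon S).map _ ≫ (yon S).map _ ≫ E₁.obj.hom = _
    rw [← Functor.map_comp_assoc, Functor.relativelyRepresentable.lift'_snd]
    exact l₁.2
  · exact Functor.relativelyRepresentable.lift'_snd _ _ _ _
  · exact Functor.relativelyRepresentable.lift'_fst _ _ _ _

/-- Lifts to fibre products in the site. -/
theorem exists_lift_pullback (p : FieldPt X) {E₁ E₂ E₀ : EtOver X} (g₁ : E₁ ⟶ E₀) (g₂ : E₂ ⟶ E₀)
    (l₁ : (FieldPt.liftsTo p).obj E₁) (l₂ : (FieldPt.liftsTo p).obj E₂)
    (h : (FieldPt.liftsTo p).map g₁ l₁ = (FieldPt.liftsTo p).map g₂ l₂) :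
    ∃ l : (FieldPt.liftsTo p).obj (EtOver.pullbackObj g₁ g₂),
      (FieldPt.liftsTo p).map (EtOver.pullbackFst g₁ g₂) l = l₁ ∧
      (FieldPt.liftsTo p).map (EtOver.pullbackSnd g₁ g₂) l = l₂ := by
  refine ⟨⟨pullback.lift l₁.1 l₂.1 (congrArg Subtype.val h), ?_⟩, Subtype.ext ?_, Subtype.ext ?_⟩
  · change (yon S).map _ ≫ (yon S).map _ ≫ E₁.obj.hom = _
    rw [← Functor.map_comp_assoc, pullback.lift_fst]
    exact l₁.2
  · exact pullback.lift_fst _ _ _
  · exact pullback.lift_snd _ _ _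

/-- The category of etale neighbourhoods of a geometric point is cofiltered. -/
theorem isCofiltered (hX : IsAlgSpace X) (p : FieldPt X) (hp : p.IsGeometric) :
    IsCofiltered (EtNbhd p) := by
  have : IsCofilteredOrEmpty (EtNbhd p) := by
    refine ⟨fun N N' => ?_, fun N N' f g => ?_⟩
    · obtain ⟨l, h₁, h₂⟩ := exists_lift_prod p N.2 N'.2
      exact ⟨⟨_, l⟩, CategoryOfElements.homMk _ _ (EtOver.prodFst N.1 N'.1) h₁,
        CategoryOfElements.homMk _ _ (EtOver.prodSnd N.1 N'.1) h₂, trivial⟩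
    · let hP := EtOver.prodIsLimit N'.1 N'.1
      let a : N.1 ⟶ EtOver.prodObj N'.1 N'.1 := hP.lift (BinaryFan.mk f.1 g.1)
      let d : N'.1 ⟶ EtOver.prodObj N'.1 N'.1 := hP.lift (BinaryFan.mk (𝟙 _) (𝟙 _))
      have af : a ≫ EtOver.prodFst _ _ = f.1 := hP.fac _ ⟨.left⟩
      have ag : a ≫ EtOver.prodSnd _ _ = g.1 := hP.fac _ ⟨.right⟩
      have df : d ≫ EtOver.prodFst _ _ = 𝟙 _ := hP.fac _ ⟨.left⟩
      have dg : d ≫ EtOver.prodSnd _ _ = 𝟙 _ := hP.fac _ ⟨.right⟩
      have h : (FieldPt.liftsTo p).map a N.2 = (FieldPt.liftsTo p).map d N'.2 := by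
        refine Subtype.ext (Functor.relativelyRepresentable.hom_ext' _ ?_ ?_)
        · have h1 : (N.2.1 ≫ a.hom.left) ≫ (EtOver.prodSnd N'.1 N'.1).hom.left = N'.2.1 := by
            rw [Category.assoc]
            change ((FieldPt.liftsTo p).map (a ≫ EtOver.prodSnd _ _) N.2).1 = _
            rw [ag, g.2]
          have h2 : (N'.2.1 ≫ d.hom.left) ≫ (EtOver.prodSnd N'.1 N'.1).hom.left = N'.2.1 := by
            rw [Category.assoc]
            change ((FieldPt.liftsTo p).map (d ≫ EtOver.prodSnd _ _) N'.2).1 = _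
            rw [dg, Functor.map_id_apply]
          exact h1.trans h2.symm
        · have h1 : (N.2.1 ≫ a.hom.left) ≫ (EtOver.prodFst N'.1 N'.1).hom.left = N'.2.1 := by
            rw [Category.assoc]
            change ((FieldPt.liftsTo p).map (a ≫ EtOver.prodFst _ _) N.2).1 = _
            rw [af, f.2]
          have h2 : (N'.2.1 ≫ d.hom.left) ≫ (EtOver.prodFst N'.1 N'.1).hom.left = N'.2.1 := by
            rw [Category.assoc]
            change ((FieldPt.liftsTo p).map (d ≫ EtOver.prodFst _ _) N'.2).1 = _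
            rw [df, Functor.map_id_apply]
          exact h1.trans h2.symm
      obtain ⟨l, hl₁, -⟩ := exists_lift_pullback p a d N.2 N'.2 h
      refine ⟨⟨_, l⟩, CategoryOfElements.homMk _ _ (EtOver.pullbackFst a d) hl₁,
        CategoryOfElements.ext _ _ _ ?_⟩
      change EtOver.pullbackFst a d ≫ f.1 = EtOver.pullbackFst a d ≫ g.1
      rw [← af, ← ag, ← Category.assoc, ← Category.assoc, EtOver.pullback_condition,
        Category.assoc, Category.assoc, df, dg]
  exact { nonempty := exists_nbhd hX p hp }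

/-- The etale neighbourhoods of a geometric point form an initially small category. -/
theorem initiallySmall (hX : IsAlgSpace X) (p : FieldPt X) (hp : p.IsGeometric) :
    InitiallySmall.{u} (EtNbhd p) := by
  have := isCofiltered hX p hp
  obtain ⟨⟨E₀, l₀⟩⟩ := exists_nbhd hX p hp
  let G := Scheme.AffineEtale.Spec E₀.obj.left.left ⋙ EtOver.ofChart E₀.obj.hom E₀.property
  refine initiallySmall_of_essentiallySmall_weakly_initial_objectProperty
    (Functor.Elements.precomp G (FieldPt.liftsTo p)).essImage ?_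
  rintro ⟨E, x⟩
  obtain ⟨w, -, hw₂⟩ := exists_lift_prod p l₀ x
  obtain ⟨R, j, _, hj, -⟩ := Scheme.exists_affine_mem_range_and_range_subset
    (x := w.1.left (pt₀ p)) (U := (⊤ : (EtOver.prodObj E₀ E).obj.left.left.Opens)) trivial
  have : Etale (EtOver.prodFst E₀ E).hom.left.left := EtOver.etale_left _
  let A : E₀.obj.left.left.AffineEtale :=
    Scheme.AffineEtale.mk (j ≫ (EtOver.prodFst E₀ E).hom.left.left)
  have hrange : Set.range w.1.left ⊆ Set.range j := by
    rintro _ ⟨y, rfl⟩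
    rwa [show y = pt₀ p from
      @Subsingleton.elim (↥(Spec (CommRingCat.of p.K))) inferInstance _ _]
  let k : (G.obj A).obj.left ⟶ (EtOver.prodObj E₀ E).obj.left :=
    Over.homMk j (by
      change j ≫ (EtOver.prodObj E₀ E).obj.left.hom =
        (j ≫ (EtOver.prodFst E₀ E).hom.left.left) ≫ E₀.obj.left.hom
      rw [Category.assoc, Over.w (EtOver.prodFst E₀ E).hom.left])
  have hk : k ≫ (EtOver.prodFst E₀ E).hom.left =
      (EtOver.homOfEtale ((Scheme.AffineEtale.Spec E₀.obj.left.left).obj A)) := by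
    ext : 1; rfl
  let k' : G.obj A ⟶ EtOver.prodObj E₀ E := EtOver.homMk k (by
    change (yon S).map k ≫ (EtOver.prodObj E₀ E).obj.hom = (yon S).map _ ≫ E₀.obj.hom
    rw [← hk, Functor.map_comp, Category.assoc, EtOver.w (EtOver.prodFst E₀ E)])
  let v : p.pt ⟶ (G.obj A).obj.left := Over.homMk (IsOpenImmersion.lift j w.1.left hrange) (by
    rw [← Over.w k, ← Over.w w.1]
    exact (Category.assoc _ _ _).symm.trans
      (congrArg (· ≫ (EtOver.prodObj E₀ E).obj.left.hom) (IsOpenImmersion.lift_fac _ _ _)))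
  have hv : v ≫ k = w.1 := by ext : 1; exact IsOpenImmersion.lift_fac _ _ _
  let y : (FieldPt.liftsTo p).obj (G.obj A) := ⟨v, by
    rw [← EtOver.w k', ← Functor.map_comp_assoc]
    change (yon S).map (v ≫ k) ≫ _ = _
    rw [hv]; exact w.2⟩
  refine ⟨⟨G.obj A, y⟩, ⟨Functor.elementsMk (G ⋙ FieldPt.liftsTo p) A y, ⟨Iso.refl _⟩⟩,
    ⟨CategoryOfElements.homMk _ _ (k' ≫ EtOver.prodSnd E₀ E) ?_⟩⟩
  refine Eq.trans ?_ hw₂
  rw [Functor.map_comp_apply]
  exact congrArg _ (Subtype.ext hv)

/-- A covering of the site lifts every geometric point. -/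
theorem jointly_surjective (p : FieldPt X) (hp : p.IsGeometric) {E : EtOver X} (R : Sieve E)
    (hR : R ∈ etTop X E) (x : (FieldPt.liftsTo p).obj E) :
    ∃ (V : EtOver X) (f : V ⟶ E) (_ : R f) (y : (FieldPt.liftsTo p).obj V),
      (FieldPt.liftsTo p).map f y = x := by
  obtain ⟨R₀, hR₀, hle⟩ :=
    (Precoverage.mem_toGrothendieck_iff_of_isStableUnderComposition (J := etPre X)).1 hR
  obtain ⟨ι, V, f, rfl⟩ := R₀.exists_eq_ofArrows
  obtain ⟨i, v, hv⟩ := (ofArrows_mem_etPre_iff V f).1 hR₀ (x.1.left (pt₀ p))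
  obtain ⟨y, hy, -⟩ := exists_lift_map p hp (f i) x v hv
  exact ⟨V i, f i, hle _ _ ⟨i⟩, y, hy⟩

/-- A geometric point of an algebraic space as a point of its small etale site. -/
noncomputable def etPoint (hX : IsAlgSpace X) (p : FieldPt X) (hp : p.IsGeometric) :
    GrothendieckTopology.Point.{u} (etTop X) where
  fiber := FieldPt.liftsTo p
  isCofiltered := isCofiltered hX p hp
  initiallySmall := initiallySmall hX p hp
  jointly_surjective R hR x := jointly_surjective p hp R hR x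

end Groth.Agent.Lib.AlgSpStalk.Point
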