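import Groth.Agent.Lib.EtSite.LocalRing
import Groth.Agent.Lib.AlgSpStalk.Point
import Groth.Prelude.Def_AlgSpOX3
import Mathlib.Algebra.Category.Ring.FilteredColimits

/-!
# The etale local ring of an algebraic space is that of a chart
-/

universe u

set_option backward.isDefEq.respectTransparency false

open CategoryTheory CategoryTheory.Limits AlgebraicGeometry Opposite AlgSp
open Groth.Agent.Lib.AlgSpStalk.Lifts Groth.Agent.Lib.AlgSpStalk.Point
open Groth.Agent.Lib.EtSite.Basic Groth.Agent.Lib.EtSite.LocalRing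

namespace Groth.Agent.Lib.AlgSpStalk.LocalRing

variable {S : Scheme.{u}} {X : Sp S} {p : FieldPt X} [IsSepClosed p.K] {E₀ : EtOver X}
  (l₀ : (FieldPt.liftsTo p).obj E₀)

/-- The geometric point of the chart. -/
noncomputable abbrev xi : Spec (CommRingCat.of p.K) ⟶ E₀.obj.left.left := l₀.1.left

variable {W : EtOver X} (h : W ⟶ E₀) (lW : (FieldPt.liftsTo p).obj W)
  (hl : (FieldPt.liftsTo p).map h lW = l₀)

/-- An object of the site over the chart as an etale scheme over the chart. -/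
noncomputable def toEtale : E₀.obj.left.left.Etale :=
  MorphismProperty.Over.mk ⊤ h.hom.left.left (EtOver.etale_left h)

/-- Its fibre point. -/
noncomputable def toFiber : (Scheme.pointSmallEtale (xi l₀)).fiber.obj (toEtale h) :=
  mkFiber (xi l₀) (toEtale h) lW.1.left
    (congrArg (fun t : (FieldPt.liftsTo p).obj E₀ => t.1.left) hl)

/-- Sections over an object above the chart give germs. -/
noncomputable def sAt (s : Γ(W.obj.left.left, ⊤)) : EtBase.etaleLocalRing (xi l₀) :=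
  (germ (xi l₀) (toEtale h) (toFiber l₀ h lW hl)).hom s

theorem sAt_res {W' : EtOver X} (k : W' ⟶ W) (h' : W' ⟶ E₀) (hk : k ≫ h = h')
    (lW' : (FieldPt.liftsTo p).obj W') (hk' : (FieldPt.liftsTo p).map k lW' = lW)
    (hl' : (FieldPt.liftsTo p).map h' lW' = l₀) (s : Γ(W.obj.left.left, ⊤)) :
    sAt l₀ h' lW' hl' (k.hom.left.left.appTop.hom s) = sAt l₀ h lW hl s := by
  refine germ_res (xi l₀) (MorphismProperty.Over.homMk k.hom.left.left
    (by subst hk; rfl) : toEtale h' ⟶ toEtale h) _ ?_ s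
  refine Over.OverMorphism.ext ?_
  exact congrArg (fun t : (FieldPt.liftsTo p).obj W => t.1.left) hk'

variable (hX : IsAlgSpace X) (hp : p.IsGeometric)

include hX hp in
/-- Independence of the object above the chart. -/
theorem sAt_indep {E : EtOver X} (l : (FieldPt.liftsTo p).obj E) (a : W ⟶ E)
    (ha : (FieldPt.liftsTo p).map a lW = l) {W' : EtOver X} (a' : W' ⟶ E) (h' : W' ⟶ E₀)
    (lW' : (FieldPt.liftsTo p).obj W') (ha' : (FieldPt.liftsTo p).map a' lW' = l)
    (hl' : (FieldPt.liftsTo p).map h' lW' = l₀) (s : Γ(E.obj.left.left, ⊤)) :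
    sAt l₀ h lW hl (a.hom.left.left.appTop.hom s) =
      sAt l₀ h' lW' hl' (a'.hom.left.left.appTop.hom s) := by
  have := isCofiltered hX p hp
  let N : EtNbhd p := ⟨W, lW⟩
  let N' : EtNbhd p := ⟨W', lW'⟩
  let M : EtNbhd p := ⟨E, l⟩
  let M₀ : EtNbhd p := ⟨E₀, l₀⟩
  obtain ⟨P, f, g, -⟩ := IsCofilteredOrEmpty.cone_objs N N'
  let e₁ : N ⟶ M := CategoryOfElements.homMk N M a ha
  let e₂ : N' ⟶ M := CategoryOfElements.homMk N' M a' ha'
  let e₃ : N ⟶ M₀ := CategoryOfElements.homMk N M₀ h hl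
  let e₄ : N' ⟶ M₀ := CategoryOfElements.homMk N' M₀ h' hl'
  obtain ⟨P₁, c, hc⟩ := IsCofilteredOrEmpty.cone_maps (f ≫ e₁) (g ≫ e₂)
  obtain ⟨P₂, d, hd⟩ := IsCofilteredOrEmpty.cone_maps (c ≫ f ≫ e₃) (c ≫ g ≫ e₄)
  let k : P₂ ⟶ N := d ≫ c ≫ f
  let k' : P₂ ⟶ N' := d ≫ c ≫ g
  have h₁ : k.1 ≫ a = k'.1 ≫ a' :=
    congrArg Subtype.val (show k ≫ e₁ = k' ≫ e₂ by simp only [k, k', Category.assoc, hc])
  have h₂ : k.1 ≫ h = k'.1 ≫ h' :=
    congrArg Subtype.val (show k ≫ e₃ = k' ≫ e₄ by simp only [k, k', Category.assoc, hd])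
  have hP : (FieldPt.liftsTo p).map (k.1 ≫ h) P₂.2 = l₀ := by
    rw [Functor.map_comp_apply]
    exact (congrArg _ k.2).trans hl
  rw [← sAt_res l₀ h lW hl k.1 (k.1 ≫ h) rfl P₂.2 k.2 hP,
    ← sAt_res l₀ h' lW' hl' k'.1 (k.1 ≫ h) h₂.symm P₂.2 k'.2 hP]
  refine congrArg _ ?_
  exact congrArg (fun m : P₂.1 ⟶ E => m.hom.left.left.appTop.hom s) h₁

/-- The component of the comparison at a neighbourhood. -/
noncomputable def comp (N : EtNbhd p) :
    (stalkEtDiagram p (OEt X)).obj (op N) ⟶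
      CommRingCat.of (ULift.{u + 1} (EtBase.etaleLocalRing (xi l₀))) :=
  CommRingCat.ofHom (ULift.ringEquiv.symm.toRingHom.comp
    ((((EtOver.prodFst N.1 E₀).hom.left.left.appTop ≫
      germ (xi l₀) (toEtale (EtOver.prodSnd N.1 E₀))
        (toFiber l₀ _ (exists_lift_prod p N.2 l₀).choose
          (exists_lift_prod p N.2 l₀).choose_spec.2)).hom).comp ULift.ringEquiv.toRingHom))

theorem comp_apply (N : EtNbhd p) (s : Γ(N.1.obj.left.left, ⊤)) :
    ((comp l₀ N).hom ⟨s⟩).down = sAt l₀ (EtOver.prodSnd N.1 E₀)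
      (exists_lift_prod p N.2 l₀).choose (exists_lift_prod p N.2 l₀).choose_spec.2
      ((EtOver.prodFst N.1 E₀).hom.left.left.appTop.hom s) := rfl

include hX hp in
theorem comp_naturality {N N' : (EtNbhd p)ᵒᵖ} (g : N ⟶ N') :
    (stalkEtDiagram p (OEt X)).map g ≫ comp l₀ N'.unop = comp l₀ N.unop := by
  refine CommRingCat.hom_ext (RingHom.ext fun s => ULift.down_injective ?_)
  obtain ⟨s⟩ := s
  refine (comp_apply l₀ N'.unop (g.unop.1.hom.left.left.appTop.hom s)).trans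
    (Eq.trans ?_ (comp_apply l₀ N.unop s).symm)
  have h0 := (exists_lift_prod p N'.unop.2 l₀).choose_spec
  have h1 := (exists_lift_prod p N.unop.2 l₀).choose_spec
  refine Eq.trans ?_ (sAt_indep l₀ _ _ h0.2 hX hp N.unop.2
    (EtOver.prodFst _ _ ≫ g.unop.1) ?_ (EtOver.prodFst _ _) _ _ h1.1 h1.2 s)
  · rfl
  · rw [Functor.map_comp_apply]
    exact (congrArg _ h0.1).trans g.unop.2

/-- The comparison map. -/
noncomputable def φ :
    OEtStalk p ⟶ CommRingCat.of (ULift.{u + 1} (EtBase.etaleLocalRing (xi l₀))) :=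
  colimit.desc (stalkEtDiagram p (OEt X))
    { pt := _
      ι :=
        { app := fun N => comp l₀ N.unop
          naturality := fun N N' g =>
            (comp_naturality l₀ hX hp g).trans (Category.comp_id _).symm } }

theorem φ_ι (N : EtNbhd p) (a : W ⟶ N.1) (ha : (FieldPt.liftsTo p).map a lW = N.2)
    (s : Γ(N.1.obj.left.left, ⊤)) :
    ((φ l₀ hX hp).hom ((stalkEtι p (OEt X) N).hom ⟨s⟩)).down =
      sAt l₀ h lW hl (a.hom.left.left.appTop.hom s) := by
  have h0 := (exists_lift_prod p N.2 l₀).choose_spec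
  have h2 : stalkEtι p (OEt X) N ≫ φ l₀ hX hp = comp l₀ N := colimit.ι_desc _ _
  refine (congrArg (fun k => (k.hom ⟨s⟩).down) h2).trans ((comp_apply l₀ N s).trans ?_)
  exact sAt_indep l₀ _ _ h0.2 hX hp N.2 _ h0.1 a h lW ha hl s

theorem φ_surjective : Function.Surjective (φ l₀ hX hp).hom := by
  rintro ⟨z⟩
  obtain ⟨V, q, s, rfl⟩ := exists_germ (xi l₀) z
  let G := EtOver.ofChart E₀.obj.hom E₀.property
  have hq : q.left ≫ V.hom = l₀.1.left := fiberHom_comp q
  let m : p.pt ⟶ (G.obj V).obj.left := Over.homMk q.left (by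
    change q.left ≫ V.hom ≫ E₀.obj.left.hom = p.str
    rw [← Category.assoc, hq]
    exact Over.w l₀.1)
  let hV : G.obj V ⟶ E₀ := EtOver.homMk (EtOver.homOfEtale V) rfl
  have hm : m ≫ EtOver.homOfEtale V = l₀.1 := Over.OverMorphism.ext hq
  let lV : (FieldPt.liftsTo p).obj (G.obj V) := ⟨m, by
    change (yon S).map m ≫ (yon S).map (EtOver.homOfEtale V) ≫ E₀.obj.hom = p.toHom
    rw [← Functor.map_comp_assoc, hm]
    exact l₀.2⟩
  have hlV : (FieldPt.liftsTo p).map hV lV = l₀ := Subtype.ext hm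
  refine ⟨(stalkEtι p (OEt X) ⟨G.obj V, lV⟩).hom ⟨s⟩, ULift.down_injective ?_⟩
  refine (φ_ι l₀ hV lV hlV hX hp ⟨G.obj V, lV⟩ (𝟙 _) ?_ s).trans ?_
  · exact congrArg (fun k => k lV) ((FieldPt.liftsTo p).map_id _)
  · let j : toEtale hV ⟶ V := MorphismProperty.Over.homMk (𝟙 V.left) (Category.id_comp _)
    refine germ_res (xi l₀) j (toFiber l₀ hV lV hlV) ?_ s
    exact Over.OverMorphism.ext (Category.comp_id _)

theorem φ_injective : Function.Injective (φ l₀ hX hp).hom := by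
  rw [injective_iff_map_eq_zero]
  intro y hy
  have := isCofiltered hX p hp
  have : PreservesFilteredColimitsOfSize.{u, u + 1} (forget CommRingCat.{u + 1}) :=
    preservesFilteredColimitsOfSize_of_univLE.{u + 1, u + 1} _
  obtain ⟨⟨N⟩, ⟨s⟩, rfl⟩ := Concrete.colimit_exists_rep (stalkEtDiagram p (OEt X)) y
  obtain ⟨lW, hfst, hsnd⟩ := exists_lift_prod p N.2 l₀
  let W := EtOver.prodObj N.1 E₀
  let a : W ⟶ N.1 := EtOver.prodFst _ _
  let h : W ⟶ E₀ := EtOver.prodSnd _ _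
  let M : EtNbhd p := ⟨W, lW⟩
  let g : M ⟶ N := CategoryOfElements.homMk M N a hfst
  let s' := a.hom.left.left.appTop.hom s
  have hs : (stalkEtι p (OEt X) N).hom ⟨s⟩ = (stalkEtι p (OEt X) M).hom ⟨s'⟩ :=
    (congrArg (fun k => k.hom ⟨s⟩) (colimit.w (stalkEtDiagram p (OEt X)) g.op)).symm
  change (stalkEtι p (OEt X) N).hom ⟨s⟩ = 0
  rw [hs]
  have hy' : sAt l₀ h lW hsnd s' = 0 :=
    (φ_ι l₀ h lW hsnd hX hp N a hfst s).symm.trans (congrArg ULift.down hy)
  unfold sAt at hy'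
  rw [← map_zero (germ (xi l₀) (toEtale h) (toFiber l₀ h lW hsnd)).hom] at hy'
  obtain ⟨V, f, q, hq, hf⟩ :=
    ((Scheme.pointSmallEtale (xi l₀)).toPresheafFiber_eq_iff' (P := EtBase.OO _) _ _ _ _).1 hy'
  let G := EtOver.ofChart E₀.obj.hom E₀.property
  have hfw : f.left ≫ h.hom.left.left = V.hom := Over.w f.hom
  let k₀ : (G.obj V).obj.left ⟶ W.obj.left := Over.homMk f.left (by
    change f.left ≫ W.obj.left.hom = V.hom ≫ E₀.obj.left.hom
    rw [← Over.w h.hom.left, ← Category.assoc, hfw])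
  have hk₀ : k₀ ≫ h.hom.left = EtOver.homOfEtale V := Over.OverMorphism.ext hfw
  let k : G.obj V ⟶ W := EtOver.homMk k₀ (by
    change (yon S).map k₀ ≫ W.obj.hom = (yon S).map (EtOver.homOfEtale V) ≫ E₀.obj.hom
    rw [← hk₀, Functor.map_comp, Category.assoc, EtOver.w h])
  have hq' : q.left ≫ f.left = lW.1.left :=
    congrArg CommaMorphism.left hq
  let m : p.pt ⟶ (G.obj V).obj.left := Over.homMk q.left (by
    change q.left ≫ (G.obj V).obj.left.hom = p.str
    rw [← Over.w k₀]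
    change q.left ≫ f.left ≫ W.obj.left.hom = p.str
    rw [← Category.assoc, hq']
    exact Over.w lW.1)
  have hm : m ≫ k₀ = lW.1 := Over.OverMorphism.ext hq'
  let lV : (FieldPt.liftsTo p).obj (G.obj V) := ⟨m, by
    rw [← EtOver.w k]
    change (yon S).map m ≫ (yon S).map k₀ ≫ W.obj.hom = p.toHom
    rw [← Functor.map_comp_assoc, hm]
    exact lW.2⟩
  let M' : EtNbhd p := ⟨G.obj V, lV⟩
  let g' : M' ⟶ M := CategoryOfElements.homMk M' M k (Subtype.ext hm)
  let t : (stalkEtDiagram p (OEt X)).obj (op M) := ⟨s'⟩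
  have := congrArg (fun c => c.hom t) (colimit.w (stalkEtDiagram p (OEt X)) g'.op)
  refine this.symm.trans ?_
  change (stalkEtι p (OEt X) M').hom ⟨f.left.appTop.hom s'⟩ = 0
  rw [show f.left.appTop.hom s' = 0 from hf.trans (map_zero ((EtBase.OO _).map f.op).hom)]
  exact map_zero (stalkEtι p (OEt X) M').hom

/-- The etale local ring of the space is that of any chart through which the point lifts. -/
noncomputable def equiv : OEtStalk p ≃+* EtBase.etaleLocalRing (xi l₀) :=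
  (RingEquiv.ofBijective (φ l₀ hX hp).hom
    ⟨φ_injective l₀ hX hp, φ_surjective l₀ hX hp⟩).trans ULift.ringEquiv

end Groth.Agent.Lib.AlgSpStalk.LocalRing
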