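import Groth.Agent.Lib.AlgSpStalk.LocalRing
import Groth.Agent.Lib.AlgSpStalk.EtLocalRing

/-!
# Properties of the etale local ring of an algebraic space
-/

universe u

set_option backward.isDefEq.respectTransparency false

open CategoryTheory CategoryTheory.Limits AlgebraicGeometry Opposite AlgSp
open Groth.Agent.Lib.AlgSpStalk.Lifts Groth.Agent.Lib.AlgSpStalk.Point

namespace Groth.Agent.Lib.AlgSpStalk.LocalRingApps

variable {S : Scheme.{u}} {X : Sp S}

theorem isSepClosed {p : FieldPt X} (hp : p.IsGeometric) : IsSepClosed p.K :=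
  have : IsAlgClosed p.K := hp
  inferInstance

/-- A surjective chart receives a lift of every geometric point. -/
theorem exists_lift_of_surjective {U : Over S} (q : (yon S).obj U ⟶ X) (hq : RepWith @Etale q)
    (hq' : RepWith @Surjective q) (p : FieldPt X) (hp : p.IsGeometric) :
    Nonempty ((FieldPt.liftsTo p).obj (EtOver.mk q hq)) := by
  have : Surjective (hq'.1.snd p.toHom).left :=
    hq'.2 p.toHom _ _ (hq'.1.isPullback p.toHom)
  obtain ⟨w, -⟩ := (hq'.1.snd p.toHom).left.surjective (pt₀ p)
  obtain ⟨p', l, -, hl, hlw⟩ := exists_geometric_over ((yon S).map (hq'.1.snd p.toHom) ≫ p.toHom) w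
  have h₁ : (yon S).map (l ≫ hq'.1.fst' p.toHom) ≫ q = p'.toHom := by
    rw [Functor.map_comp, Category.assoc, Functor.relativelyRepresentable.map_fst',
      (hq'.1.isPullback p.toHom).w]
    exact hl
  have h₂ : (yon S).map (l ≫ hq'.1.snd p.toHom) ≫ p.toHom = p'.toHom := by
    rw [Functor.map_comp, Category.assoc]
    exact hl
  have e := (mk_eq_ofPt p' _ _ h₁).symm.trans (mk_eq_ofPt p' _ _ h₂)
  rw [Points.ofPt_toHom] at e
  obtain ⟨m, -⟩ := exists_lift p hp (EtOver.mk q hq) _ e
  exact ⟨m⟩

theorem default_eq (p : FieldPt X) [IsSepClosed p.K] {E : EtOver X}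
    (l : (FieldPt.liftsTo p).obj E) :
    (LocalRing.xi l).base default = l.1.left (pt₀ p) :=
  congrArg l.1.left (@Subsingleton.elim (↥(Spec (CommRingCat.of p.K))) inferInstance _ _)

variable (hX : IsAlgSpace X) (p : FieldPt X) (hp : p.IsGeometric)

include hX hp in
theorem isLocalRing : IsLocalRing (OEtStalk p) := by
  have := isSepClosed hp
  obtain ⟨⟨E, l⟩⟩ := exists_nbhd hX p hp
  exact (LocalRing.equiv l hX hp).symm.isLocalRing

include hX hp in
theorem isStrictlyHenselian : EtCoh.IsStrictlyHenselianLocalRing (OEtStalk p) := by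
  have := isSepClosed hp
  obtain ⟨⟨E, l⟩⟩ := exists_nbhd hX p hp
  let e := (LocalRing.equiv l hX hp).symm
  obtain ⟨hR, hk⟩ := EtSite.LocalRing.isStrictlyHenselianLocalRing (LocalRing.xi l)
  have : IsLocalRing (OEtStalk p) := e.isLocalRing
  have hmem : ∀ x, x ∈ IsLocalRing.maximalIdeal (OEtStalk p) ↔
      e.symm x ∈ IsLocalRing.maximalIdeal (EtBase.etaleLocalRing (LocalRing.xi l)) := fun x => by
    simp only [IsLocalRing.mem_maximalIdeal, mem_nonunits_iff, isUnit_map_iff]
  have hS : HenselianLocalRing (OEtStalk p) := by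
    refine ⟨fun f hf a₀ h₁ h₂ => ?_⟩
    have key : ∀ (P : Polynomial (OEtStalk p)) x,
        (P.map e.symm.toRingHom).eval (e.symm x) = e.symm (P.eval x) := fun P x =>
      Polynomial.eval_map_apply e.symm.toRingHom x
    obtain ⟨a, ha, ha'⟩ := HenselianLocalRing.is_henselian (f.map e.symm.toRingHom) (hf.map _)
      (e.symm a₀) (by rw [key]; exact (hmem _).mp h₁)
      (by rw [Polynomial.derivative_map, key, isUnit_map_iff]; exact h₂)
    refine ⟨e a, e.symm.injective ?_, ?_⟩
    · rw [← key, e.symm_apply_apply, map_zero]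
      exact ha
    · rw [hmem, map_sub, e.symm_apply_apply]
      exact ha'
  exact ⟨hS, Henselian.StrictHenselization.isSepClosed_of_ringEquiv
    (IsLocalRing.ResidueField.mapEquiv e)⟩

include hX hp in
theorem ringKrullDim_eq [IsSepClosed p.K] {E : EtOver X} (l : (FieldPt.liftsTo p).obj E) :
    ringKrullDim (OEtStalk p) =
      ringKrullDim (E.obj.left.left.presheaf.stalk (l.1.left (pt₀ p))) := by
  rw [ringKrullDim_eq_of_ringEquiv (LocalRing.equiv l hX hp), EtLocalRing.ringKrullDim_eq,
    default_eq]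

include hX hp in
theorem isNoetherianRing (h : IsLocNoethSp X) : IsNoetherianRing (OEtStalk p) := by
  have := isSepClosed hp
  obtain ⟨U, q, hq, hq', hU⟩ := h
  obtain ⟨l⟩ := exists_lift_of_surjective q hq hq' p hp
  have : IsLocallyNoetherian (EtOver.mk q hq).obj.left.left := hU
  have := (EtLocalRing.isNoetherianRing_iff (ξ := LocalRing.xi l)).mpr inferInstance
  exact isNoetherianRing_of_ringEquiv _ (LocalRing.equiv l hX hp).symm

include hX hp in
theorem isRegularLocalRing_iff [IsSepClosed p.K] {E : EtOver X} (l : (FieldPt.liftsTo p).obj E) :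
    IsRegularLocalRing (OEtStalk p) ↔
      IsRegularLocalRing (E.obj.left.left.presheaf.stalk (l.1.left (pt₀ p))) := by
  have := EtLocalRing.isRegularLocalRing_iff (ξ := LocalRing.xi l)
  rw [default_eq] at this
  rw [← this]
  exact ⟨fun _ => IsRegularLocalRing.of_ringEquiv (LocalRing.equiv l hX hp),
    fun _ => IsRegularLocalRing.of_ringEquiv (LocalRing.equiv l hX hp).symm⟩

end Groth.Agent.Lib.AlgSpStalk.LocalRingApps
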