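import Groth.Agent.Lib.AlgSpStalk.Stalks
import Mathlib.Algebra.Category.Ring.FilteredColimits

/-!
# Germs and supports of sections on the small etale site of an algebraic space
-/

universe v' u' u

set_option backward.isDefEq.respectTransparency false

open CategoryTheory CategoryTheory.Limits AlgebraicGeometry Opposite AlgSp
open Groth.Agent.Lib.AlgSpStalk.Lifts Groth.Agent.Lib.AlgSpStalk.Point
open Groth.Agent.Lib.AlgSpStalk.Stalks

namespace Groth.Agent.Lib.AlgSpStalk.Sections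

instance preservesFilteredForgetCommRing :
    PreservesFilteredColimitsOfSize.{u, u} (forget CommRingCat.{u + 1}) :=
  preservesFilteredColimitsOfSize_shrink.{u, u + 1, u, u + 1} _

instance hasColimitsCommRing : HasColimitsOfSize.{u, u} CommRingCat.{u + 1} :=
  hasColimitsOfSizeShrink.{u, u, u + 1, u + 1} _

variable {S : Scheme.{u}} {X : Sp S}

/-- Sections agreeing near every geometric point of an object are equal. -/
theorem section_ext {A : Type u'} [Category.{v'} A] {FC : A → A → Type*} {CC : A → Type (u + 1)}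
    [∀ (M N : A), FunLike (FC M N) (CC M) (CC N)] [ConcreteCategory.{u + 1} A FC]
    [(etTop X).HasSheafCompose (forget A)] (F : EtSh X A) {E : EtOver X}
    (s t : ToType (F.obj.obj (op E)))
    (h : ∀ (p : FieldPt X), p.IsGeometric → ∀ x : (FieldPt.liftsTo p).obj E,
      ∃ (V : EtOver X) (f : V ⟶ E) (y : (FieldPt.liftsTo p).obj V),
        (FieldPt.liftsTo p).map f y = x ∧ F.obj.map f.op s = F.obj.map f.op t) : s = t := by
  refine (((isSheaf_iff_isSheaf_of_type _ _).1
    ((sheafCompose (etTop X) (forget A)).obj F).property).isSeparated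
    (Presheaf.equalizerSieve s t) (mem_etTop _ fun p hp x => ?_)).ext fun V f hf => hf
  obtain ⟨V, f, y, hy, he⟩ := h p hp x
  exact ⟨V, f, he, y, hy⟩

variable (F : AbEt X)

/-- The set of points of `U` near which a section vanishes. -/
def vanishingSet {U : EtOver X} (σ : ↥(F.obj.obj (op U))) : Set ↥U.obj.left.left :=
  {u | ∃ (V : EtOver X) (φ : V ⟶ U), (F.obj.map φ.op).hom σ = 0 ∧
    u ∈ Set.range (fun v => φ.hom.left.left v)}

theorem isOpen_vanishingSet {U : EtOver X} (σ : ↥(F.obj.obj (op U))) :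
    IsOpen (vanishingSet F σ) := by
  rw [isOpen_iff_forall_mem_open]
  rintro u ⟨V, φ, h, hu⟩
  have := EtOver.etale_left φ
  exact ⟨_, fun w hw => ⟨V, φ, h, hw⟩, φ.hom.left.left.isOpenMap.isOpen_range, hu⟩

theorem map_eq_zero_iff {U : EtOver X} (σ : ↥(F.obj.obj (op U))) {V : EtOver X} (φ : V ⟶ U) :
    (F.obj.map φ.op).hom σ = 0 ↔ Set.range (fun v => φ.hom.left.left v) ⊆ vanishingSet F σ := by
  refine ⟨fun h u hu => ⟨V, φ, h, hu⟩, fun h => section_ext F _ _ fun p hp y => ?_⟩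
  obtain ⟨V', φ', h', v', hv'⟩ := h ⟨y.1.left (pt₀ p), rfl⟩
  obtain ⟨y', hy', -⟩ := exists_lift_map p hp φ' ((FieldPt.liftsTo p).map φ y) v' hv'
  obtain ⟨z, hz, -⟩ := exists_lift_pullback p φ φ' y y' hy'.symm
  refine ⟨_, EtOver.pullbackFst φ φ', z, hz, ?_⟩
  rw [map_zero]
  change (F.obj.map (EtOver.pullbackFst φ φ').op).hom ((F.obj.map φ.op).hom σ) = 0
  rw [← ConcreteCategory.comp_apply, ← Functor.map_comp, ← op_comp, EtOver.pullback_condition,
    op_comp, Functor.map_comp, ConcreteCategory.comp_apply, h', map_zero]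

variable (hX : IsAlgSpace X)

include hX in
theorem stalkEtι_eq_zero_iff (p : FieldPt X) (hp : p.IsGeometric) {U : EtOver X}
    (σ : ↥(F.obj.obj (op U))) (l : (FieldPt.liftsTo p).obj U) :
    (stalkEtι p F ⟨U, l⟩).hom σ = 0 ↔ l.1.left (pt₀ p) ∈ vanishingSet F σ := by
  have h0 : (stalkEtι p F ⟨U, l⟩).hom 0 = 0 := map_zero _
  constructor
  · intro h
    obtain ⟨V, f, y, hy, he⟩ :=
      ((etPoint hX p hp).toPresheafFiber_eq_iff' (P := F.obj) U l σ 0).1 (h.trans h0.symm)
    rw [map_zero] at he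
    refine ⟨V, f, he, y.1.left (pt₀ p), ?_⟩
    rw [← hy]; rfl
  · rintro ⟨V, φ, h, v, hv⟩
    obtain ⟨y, hy, -⟩ := exists_lift_map p hp φ l v hv
    rw [← h0]
    exact ((etPoint hX p hp).toPresheafFiber_eq_iff' (P := F.obj) U l σ 0).2
      ⟨V, φ, y, hy, h.trans (map_zero _).symm⟩

include hX in
theorem exists_germ (p : FieldPt X) (hp : p.IsGeometric) (z : ↥(stalkEt p F)) :
    ∃ (U : EtOver X) (l : (FieldPt.liftsTo p).obj U) (σ : ↥(F.obj.obj (op U))),
      (stalkEtι p F ⟨U, l⟩).hom σ = z :=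
  (etPoint hX p hp).toPresheafFiber_jointly_surjective (A := AddCommGrpCat.{u + 1}) (P := F.obj) z

include hX in
theorem exists_not_isZero_iff (x : Points X) :
    (∃ p : FieldPt X, p.IsGeometric ∧ Points.mk p = x ∧ ¬ IsZero (stalkEt p F)) ↔
      ∃ (U : EtOver X) (σ : ↥(F.obj.obj (op U))) (u : ↥U.obj.left.left),
        Points.ofPt U.obj.hom u = x ∧ u ∉ vanishingSet F σ := by
  constructor
  · rintro ⟨p, hp, rfl, hne⟩
    by_contra h
    push_neg at h
    refine hne (@AddCommGrpCat.isZero_of_subsingleton _ ⟨fun z z' => ?_⟩)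
    suffices ∀ z : ↥(stalkEt p F), z = 0 from (this z).trans (this z').symm
    intro z
    obtain ⟨U, l, σ, rfl⟩ := exists_germ F hX p hp z
    exact (stalkEtι_eq_zero_iff F hX p hp σ l).2 (h U σ _ (ofPt_lift p l))
  · rintro ⟨U, σ, u, hu, hσ⟩
    obtain ⟨p, hp, rfl⟩ := exists_geometric x
    obtain ⟨l, hl⟩ := exists_lift p hp U u hu
    refine ⟨p, hp, rfl, fun hz => hσ ?_⟩
    rw [← hl, ← stalkEtι_eq_zero_iff F hX p hp σ l]
    exact @Subsingleton.elim _ (AddCommGrpCat.subsingleton_of_isZero hz) _ _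

include hX in
theorem isClosed_setOf_nontrivial (O' : EtSh X CommRingCat.{u + 1}) :
    IsClosed {x : Points X |
      ∃ p : FieldPt X, p.IsGeometric ∧ Points.mk p = x ∧ Nontrivial ↥(stalkEt p O')} := by
  rw [← isOpen_compl_iff, isOpen_iff_forall_mem_open]
  intro x hx
  obtain ⟨p, hp, rfl⟩ := exists_geometric x
  have h01 : (0 : ↥(stalkEt p O')) = 1 := by
    by_contra hne
    exact hx ⟨p, hp, rfl, ⟨⟨0, 1, hne⟩⟩⟩
  obtain ⟨N⟩ := exists_nbhd hX p hp
  have h' : (stalkEtι p O' N).hom 0 = (stalkEtι p O' N).hom 1 := by simpa using h01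
  obtain ⟨V, f, y, -, he⟩ :=
    ((etPoint hX p hp).toPresheafFiber_eq_iff' (P := O'.obj) N.1 N.2 0 1).1 h'
  rw [map_zero, map_one] at he
  refine ⟨Set.range (Points.ofPt V.obj.hom), ?_, isOpen_range_ofPt V, _, ofPt_lift p y⟩
  rintro _ ⟨v, rfl⟩ ⟨q, hq, hqv, hnt⟩
  obtain ⟨m, -⟩ := exists_lift q hq V v hqv.symm
  refine zero_ne_one (α := ↥(stalkEt q O')) ?_
  simpa using congrArg (stalkEtι q O' ⟨V, m⟩).hom he

end Groth.Agent.Lib.AlgSpStalk.Sections
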